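import Cfsg.Agent.Lib.Chev.TwE6FiveSetup

/-!
Elements of the twisted group of type E6 over the field with four elements given by words in the generators,
and proper overgroups of normalisers of p-subgroups from certificates on the 27 coordinates.
-/

set_option autoImplicit false
set_option maxRecDepth 100000
set_option linter.unusedSimpArgs false
set_option linter.unusedSectionVars false

namespace CfsgLib.Chev.TwE6Loc

open Cfsg.Lie CfsgLib.Chev CfsgLib.Chev.E6C CfsgLib.Chev.F4InE6 CfsgLib.Chev.FiInE6 CfsgLib.Chev.TwE6Five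
  CfsgLib.InvChar.Coset Matrix

variable {K : Type*} [Field K]

/-- All letters name generators. -/
noncomputable def wordOK (L : List ℕ) : Bool := allR (fun g => Nat.blt g 12) L

/-- A word on 27 coordinates. -/
noncomputable def uW (ω : Kˣ) (L : List ℕ) : GL I27 K := (L.map (uGen ω 0)).prod

/-- A word in the adjoint representation. -/
noncomputable def xW (ω : Kˣ) (L : List ℕ) : GL chevE6.Idx K := (L.map (xGen ω 0)).prod

theorem word_gam (ω : Kˣ) (L : List ℕ) : (uW ω L, xW ω L) ∈ Gam K :=
  prod_mem_gam _ _ fun g _ => gen_mem_gam ω 0 g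

variable [CharP K 2] {ω : Kˣ} (hω : ω ^ 3 = 1) (h1 : ω ≠ 1)

include hω h1

theorem word_twisted (L : List ℕ) : xW ω L ∈ twistedE6 K 2 :=
  list_prod_mem fun x hx => by
    obtain ⟨g, -, rfl⟩ := List.mem_map.1 hx
    exact gen_twisted hω h1 0 g

/-- A word as an element of the twisted group. -/
noncomputable def tW (L : List ℕ) : ↥(twistedE6 K 2) := ⟨xW ω L, word_twisted hω h1 L⟩

/-- The matrix of a word from a check. -/
theorem word_mat {L : List ℕ} {M : PM} (hL : wordOK L = true) (h : eqM (prodK gTbl L (scM 1)) M = true) :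
    M.length = 27 ∧ (uW ω L : Matrix I27 I27 K) = mat (ω : K) M :=
  prodK_one hω h1 (f := uGen ω 0) (fun g hg => by
    have hg' : g < 12 := Nat.le_of_ble_eq_true (allR_true hL hg)
    exact ⟨gTbl_length g hg', mat_uGen hω h1 hg'⟩) h

theorem tW_append' (L M : List ℕ) : tW hω h1 (L ++ M) = tW hω h1 L * tW hω h1 M := by
  refine Subtype.ext ?_
  show xW ω (L ++ M) = xW ω L * xW ω M
  rw [xW, xW, xW, List.map_append, List.prod_append]

theorem gen_sq : ∀ g, xGen ω 0 g * xGen ω 0 g = 1 := by
  intro g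
  rcases Nat.lt_or_ge g 12 with hg | hg
  · have h : eqM (mulM (gTbl g) (gTbl g)) (scM 1) = true :=
      (by decide +kernel : ∀ g < 12, eqM (mulM (gTbl g) (gTbl g)) (scM 1) = true) g hg
    have hu : uGen ω 0 g * uGen ω 0 g = 1 := by
      refine Units.ext ?_
      rw [Units.val_mul, mat_uGen hω h1 hg, ← mat_mul (omega_sq hω h1) (gTbl_length g hg) (gTbl_length g hg),
        Units.val_one, ← mat_one (omega_sq hω h1)]
      exact (eqM_spec (ω : K) h).2.2
    refine gam_trivial ?_
    have h2 := mul_mem (gen_mem_gam ω 0 g) (gen_mem_gam ω 0 g)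
    rwa [Prod.mk_mul_mk, hu] at h2
  · rw [xGen, List.getD_eq_default _ _ (show genT.length ≤ g from hg)]
    simp

theorem word_reverse (L : List ℕ) : tW hω h1 L * tW hω h1 L.reverse = 1 := by
  refine Subtype.ext ?_
  show xW ω L * xW ω L.reverse = 1
  induction L with
  | nil => simp [xW]
  | cons g L ih =>
    have e : xW ω (g :: L) * xW ω (g :: L).reverse = xGen ω 0 g * (xW ω L * xW ω L.reverse) * xGen ω 0 g := by
      simp [xW, List.map_append, mul_assoc]
    rw [e, ih, mul_one, gen_sq hω h1 g]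

omit hω h1 in
theorem gen_matrix {g : ℕ} (hω : ω ^ 3 = 1) (h1 : ω ≠ 1) (hg : g < 12) :
    (gTbl g).length = 27 ∧ (uGen ω 0 g : Matrix I27 I27 K) = mat (ω : K) (gTbl g) :=
  ⟨gTbl_length g hg, mat_uGen hω h1 hg⟩

omit [CharP K 2] hω h1 in
/-- The twisted group lies in the Chevalley group. -/
theorem twisted_le_group : twistedE6 K 2 ≤ chevE6.group K := by
  refine (Subgroup.closure_le _).2 ?_
  rintro y ⟨l, -, hy⟩
  have hy' : y = (l.map fun p => goodE6.xG p.1 p.2).prod := by
    refine Units.ext ?_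
    rw [hy, ← Units.coeHom_apply, map_list_prod, List.map_map, ChevalleyDatum.wordMat]
    congr 1
  rw [hy']
  refine Subgroup.list_prod_mem _ fun x hx => ?_
  obtain ⟨p, -, rfl⟩ := List.mem_map.1 hx
  by_cases hp : p.1 < chevE6.nroots
  · exact goodE6.xG_mem_group hp _
  · have h0 : goodE6.xG p.1 p.2 = (1 : GL chevE6.Idx K) := Units.ext (by
      rw [goodE6.coe_xG, ChevalleyDatum.x, dif_neg hp]; rfl)
    rw [h0]; exact one_mem _

/-- Two packed matrices with different codes are different. -/
theorem mat_ne {A B : PM} {k j : ℕ} (hk : k < 27) (hj : j < 27) (h : cd (row A k) j ≠ cd (row B k) j) :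
    mat (ω : K) A ≠ mat (ω : K) B := by
  intro e
  have e' := congrFun (congrFun e (pt k)) (pt j)
  rw [mat_cv hω h1 _ hk hj, mat_cv hω h1 _ hk hj] at e'
  have h0 : cv ω (addc (cd (row A k) j) (cd (row B k) j)) = 0 := by
    rw [cv_addc hω h1, e', CharTwo.add_self_eq_zero]
  have hz := cv_eq_zero hω h1 (cd_lt _ _) h0
  exact h ((by decide +kernel : ∀ a < 4, ∀ b < 4, addc a b = 0 → a = b) _ (cd_lt _ _) _ (cd_lt _ _) hz)

end CfsgLib.Chev.TwE6Loc
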