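import Cfsg.Agent.Lib.Chev.TwE6Loc.Fixed

/-!
Checkable certificates for the overgroups given by fixed spaces.
-/

set_option autoImplicit false
set_option maxRecDepth 100000
set_option linter.unusedSimpArgs false
set_option linter.unusedSectionVars false

namespace CfsgLib.Chev.TwE6Loc

open Cfsg.Lie CfsgLib.Chev CfsgLib.Chev.E6C CfsgLib.Chev.F4InE6 CfsgLib.Chev.FiInE6 CfsgLib.Chev.TwE6Five
  CfsgLib.InvChar.Coset Matrix

/-- A certificate: two commuting elements as words with their matrices, a basis of the common fixed space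
with the coefficients of `1 = L1 (X1 + 1) + L2 (X2 + 1) + B S`, an involutory element fixing that space, the
positions of two witnesses. -/
structure Data where
  p : ℕ
  w1 : List ℕ
  w2 : List ℕ
  X1 : PM
  X2 : PM
  B : PM
  L1 : PM
  L2 : PM
  S : PM
  wg : List ℕ
  G : PM
  T : PM
  h : ℕ
  useSnd : Bool
  pos : ℕ × ℕ
  cpos : ℕ × ℕ

/-- The first element witnessing that the space moves. -/
noncomputable def Data.Xh (d : Data) : PM := bif d.useSnd then d.X2 else d.X1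

/-- The words give the matrices. -/
noncomputable def Data.okW (d : Data) : Bool :=
  wordOK d.w1 && wordOK d.w2 && wordOK d.wg && Nat.blt d.h 12 &&
    eqM (prodK gTbl d.w1 (scM 1)) d.X1 && eqM (prodK gTbl d.w2 (scM 1)) d.X2 &&
    eqM (prodK gTbl d.wg (scM 1)) d.G

/-- The identities. -/
noncomputable def Data.okI (d : Data) : Bool :=
  eqM (prodK (fun _ => d.X1) (upto d.p) (scM 1)) (scM 1) &&
    eqM (prodK (fun _ => d.X2) (upto d.p) (scM 1)) (scM 1) &&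
    eqM (mulM d.X1 d.X2) (mulM d.X2 d.X1) &&
    Nat.beq d.B.length 27 && Nat.beq d.L1.length 27 && Nat.beq d.L2.length 27 && Nat.beq d.S.length 27 &&
    Nat.beq d.T.length 27 &&
    eqM (mulM d.X1 d.B) d.B && eqM (mulM d.X2 d.B) d.B &&
    eqM (addM (addM (mulM d.L1 (addM d.X1 (scM 1))) (mulM d.L2 (addM d.X2 (scM 1)))) (mulM d.B d.S)) (scM 1) &&
    eqM (mulM d.G d.G) (scM 1) && eqM (mulM d.G d.B) (mulM d.B d.T) &&
    Nat.blt d.pos.1 27 && Nat.blt d.pos.2 27 && Nat.blt d.cpos.1 27 && Nat.blt d.cpos.2 27 &&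
    !Nat.beq (cd (row (mulM (mulM (addM d.Xh (scM 1)) (gTbl d.h)) d.B) d.pos.1) d.pos.2) 0 &&
    !Nat.beq (cd (row (mulM (mulM (mulM d.G d.X1) d.G) d.X2) d.cpos.1) d.cpos.2)
      (cd (row (mulM d.X2 (mulM (mulM d.G d.X1) d.G)) d.cpos.1) d.cpos.2)

variable {K : Type*} [Field K] [CharP K 2] {ω : Kˣ} (hω : ω ^ 3 = 1) (h1 : ω ≠ 1)

include hω h1

theorem pow_of_check {X : PM} {u : GL I27 K} (hl : X.length = 27) (hu : (u : Matrix I27 I27 K) = mat (ω : K) X)
    {n : ℕ} (h : eqM (prodK (fun _ => X) (upto n) (scM 1)) (scM 1) = true) : u ^ n = 1 := by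
  obtain ⟨-, he⟩ := prodK_one hω h1 (f := fun _ => u) (fun x _ => ⟨hl, hu⟩) h
  refine Units.ext ?_
  rw [Units.val_one, ← mat_one (omega_sq hω h1), ← he, List.map_const', List.prod_replicate]
  rw [E6C.upto_eq, List.length_range]

variable [Fintype K] (hK : Fintype.card K = 4)
include hK

/-- Consequences of a certificate. -/
theorem cert {d : Data} (hW : d.okW = true) (hI : d.okI = true) (hp : Nat.Coprime d.p 3) :
    tW hω h1 d.w1 ≠ 1 ∧ tW hω h1 d.w1 ^ d.p = 1 ∧ tW hω h1 d.w2 ^ d.p = 1 ∧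
    tW hω h1 d.w1 * tW hω h1 d.w2 = tW hω h1 d.w2 * tW hω h1 d.w1 ∧
      ¬ IsCoatom (Subgroup.normalizer ((Subgroup.closure {tW hω h1 d.w1, tW hω h1 d.w2} : Subgroup _) :
        Set ↥(twistedE6 K 2))) := by
  simp only [Data.okW, Bool.and_eq_true] at hW
  simp only [Data.okI, Bool.and_eq_true, Bool.not_eq_true'] at hI
  obtain ⟨⟨⟨⟨⟨⟨k1, k2⟩, kg⟩, kh⟩, e1⟩, e2⟩, eg⟩ := hW
  obtain ⟨⟨⟨⟨⟨⟨⟨⟨⟨⟨⟨⟨⟨⟨⟨⟨⟨⟨p1, p2⟩, pc⟩, lB⟩, lL1⟩, lL2⟩, lS⟩, lT⟩, b1⟩, b2⟩, dec'⟩, gg⟩, gB⟩, r1⟩, r2⟩, r3⟩,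
    r4⟩, hv⟩, hc⟩ := hI
  have hw := omega_sq hω h1
  obtain ⟨l1, m1⟩ := word_mat hω h1 k1 e1
  obtain ⟨l2, m2⟩ := word_mat hω h1 k2 e2
  obtain ⟨lg, mg⟩ := word_mat hω h1 kg eg
  obtain ⟨lh, mh⟩ := gen_matrix hω h1 (Nat.le_of_ble_eq_true kh)
  have lB' := Nat.eq_of_beq_eq_true lB
  have lI := scM_length 1
  have hu1 : uW ω d.w1 ^ d.p = 1 := pow_of_check hω h1 l1 m1 p1
  have hu2 : uW ω d.w2 ^ d.p = 1 := pow_of_check hω h1 l2 m2 p2
  have hu12 : uW ω d.w1 * uW ω d.w2 = uW ω d.w2 * uW ω d.w1 := by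
    refine Units.ext ?_
    rw [Units.val_mul, Units.val_mul, m1, m2, ← mat_mul hw l1 l2, ← mat_mul hw l2 l1]
    exact (eqM_spec (ω : K) pc).2.2
  have hgg : uW ω d.wg * uW ω d.wg = 1 := by
    refine Units.ext ?_
    rw [Units.val_mul, mg, ← mat_mul hw lg lg, Units.val_one, ← mat_one hw]
    exact (eqM_spec (ω : K) gg).2.2
  set e : ↥(twistedE6 K 2) × GL I27 K := (tW hω h1 d.w1, uW ω d.w1) with he
  set e' : ↥(twistedE6 K 2) × GL I27 K := (tW hω h1 d.w2, uW ω d.w2) with he'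
  set S : Set (↥(twistedE6 K 2) × GL I27 K) := {e, e'} with hS
  have hL : Lifts S d.p := by
    refine ⟨?_, ?_, ?_⟩
    · rintro a (rfl | rfl) <;> exact word_gam ω _
    · rintro a (rfl | rfl)
      exacts [hu1, hu2]
    · rintro a (rfl | rfl) b (rfl | rfl)
      exacts [rfl, hu12, hu12.symm, rfl]
  have hB1 := (eqM_spec (ω : K) b1).2.2
  have hB2 := (eqM_spec (ω : K) b2).2.2
  rw [mat_mul hw l1 lB', ← m1] at hB1
  rw [mat_mul hw l2 lB', ← m2] at hB2
  have hfix : ∀ v, Fixd S v ↔ ∃ u, v = mat (ω : K) d.B *ᵥ u := by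
    intro v
    refine ⟨fun hv => ⟨mat (ω : K) d.S *ᵥ v, ?_⟩, ?_⟩
    · have hd := (eqM_spec (ω : K) dec').2.2
      rw [mat_add, mat_add, mat_mul hw (Nat.eq_of_beq_eq_true lL1) (addM_length _ _),
        mat_mul hw (Nat.eq_of_beq_eq_true lL2) (addM_length _ _),
        mat_mul hw lB' (Nat.eq_of_beq_eq_true lS), mat_add, mat_add, mat_one hw, ← m1, ← m2] at hd
      have hz : ∀ a ∈ S, ((a.2 : Matrix I27 I27 K) + 1) *ᵥ v = 0 := fun a ha => by
        rw [Matrix.add_mulVec, Matrix.one_mulVec, hv a ha]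
        exact funext fun i => CharTwo.add_self_eq_zero (v i)
      conv_lhs => rw [← Matrix.one_mulVec v, ← hd]
      rw [Matrix.add_mulVec, Matrix.add_mulVec, ← Matrix.mulVec_mulVec, ← Matrix.mulVec_mulVec,
        ← Matrix.mulVec_mulVec, hz e (Set.mem_insert _ _), hz e' (Set.mem_insert_of_mem _ rfl),
        Matrix.mulVec_zero, Matrix.mulVec_zero, zero_add, zero_add]
    · rintro ⟨u, rfl⟩ a (rfl | rfl) <;> rw [Matrix.mulVec_mulVec]
      · rw [hB1]
      · rw [hB2]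
  have hGB := (eqM_spec (ω : K) gB).2.2
  rw [mat_mul hw lg lB', mat_mul hw lB' (Nat.eq_of_beq_eq_true lT), ← mg] at hGB
  have hG1 : ∀ v, Fixd S v → Fixd S ((uW ω d.wg : Matrix I27 I27 K) *ᵥ v) := by
    intro v hv
    obtain ⟨u, rfl⟩ := (hfix v).1 hv
    refine (hfix _).2 ⟨mat (ω : K) d.T *ᵥ u, ?_⟩
    rw [Matrix.mulVec_mulVec, hGB, Matrix.mulVec_mulVec]
  have hGfix : ∀ v, Fixd S v ↔ Fixd S ((uW ω d.wg : Matrix I27 I27 K) *ᵥ v) := fun v =>
    ⟨hG1 v, fun hv => by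
      have := hG1 _ hv
      rwa [Matrix.mulVec_mulVec, ← Units.val_mul, hgg, Units.val_one, Matrix.one_mulVec] at this⟩
  have hinv : (uW ω d.wg)⁻¹ = uW ω d.wg := inv_eq_of_mul_eq_one_right hgg
  have hGn : uW ω d.wg * uW ω d.w1 * (uW ω d.wg)⁻¹ * uW ω d.w2 ≠
      uW ω d.w2 * (uW ω d.wg * uW ω d.w1 * (uW ω d.wg)⁻¹) := by
    rw [hinv]
    intro h
    have h' := congrArg Units.val h
    simp only [Units.val_mul, m1, m2, mg] at h'
    have la := (length_mulM d.G d.X1).trans lg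
    have lb := (length_mulM (mulM d.G d.X1) d.G).trans la
    rw [← mat_mul hw lg l1, ← mat_mul hw la lg, ← mat_mul hw lb l2, ← mat_mul hw l2 lb] at h'
    have hc' : cd (row (mulM (mulM (mulM d.G d.X1) d.G) d.X2) d.cpos.1) d.cpos.2 ≠
        cd (row (mulM d.X2 (mulM (mulM d.G d.X1) d.G)) d.cpos.1) d.cpos.2 := fun hq => by
      rw [hq] at hc
      simp [natBeq] at hc
    exact mat_ne hω h1 (Nat.le_of_ble_eq_true r3) (Nat.le_of_ble_eq_true r4) hc' h'
  have hx0 : tW hω h1 d.w1 ≠ 1 := by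
    intro hx
    have := lift_unique hK (word_gam ω d.w1) (show ((1 : GL I27 K), xW ω d.w1) ∈ Gam K by
      rw [show xW ω d.w1 = 1 from congrArg Subtype.val hx]; exact one_mem _) hu1 (one_pow _) hp
    rw [this] at hGn
    simp at hGn
  refine ⟨hx0, ?_, ?_, ?_, ?_⟩
  · refine Subtype.ext (gam_trivial ?_)
    have h := pow_mem (word_gam ω d.w1) d.p
    rwa [Prod.pow_mk, hu1] at h
  · refine Subtype.ext (gam_trivial ?_)
    have h := pow_mem (word_gam ω d.w2) d.p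
    rwa [Prod.pow_mk, hu2] at h
  · refine Subtype.ext (mul_inv_eq_one.1 (gam_trivial ?_))
    have h := mul_mem (mul_mem (word_gam ω d.w1) (word_gam ω d.w2))
      (inv_mem (mul_mem (word_gam ω d.w2) (word_gam ω d.w1)))
    rw [Prod.mk_mul_mk, Prod.mk_mul_mk, Prod.inv_mk, Prod.mk_mul_mk, hu12, mul_inv_cancel] at h
    exact h
  · have hgp : gp S = Subgroup.closure {tW hω h1 d.w1, tW hω h1 d.w2} := by
      rw [gp, hS, Set.image_pair]
    rw [← hgp]
    set u : I27 → K := sgl d.pos.2 with hu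
    have hBu : Fixd S (mat (ω : K) d.B *ᵥ u) := (hfix _).2 ⟨u, rfl⟩
    have hr1 := Nat.le_of_ble_eq_true r1
    have hr2 := Nat.le_of_ble_eq_true r2
    have hvne : cd (row (mulM (mulM (addM d.Xh (scM 1)) (gTbl d.h)) d.B) d.pos.1) d.pos.2 ≠ 0 := fun h0 => by
      rw [h0] at hv; simp [natBeq] at hv
    refine not_coatom hK hL hp (g := tW hω h1 d.wg) (word_gam ω d.wg) hGfix (Set.mem_insert _ _)
      (Set.mem_insert_of_mem _ rfl) hGn (h := ⟨xGen ω 0 d.h, gen_twisted hω h1 0 d.h⟩) (gen_mem_gam ω 0 d.h) hBu ?_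
    intro hf
    refine hvne (cv_eq_zero hω h1 (cd_lt _ _) ?_)
    have hX : ∀ a ∈ S, ∀ M : PM, M.length = 27 → (a.2 : Matrix I27 I27 K) = mat (ω : K) M →
        cv ω (cd (row (mulM (mulM (addM M (scM 1)) (gTbl d.h)) d.B) d.pos.1) d.pos.2) = 0 := by
      intro a ha M hM hMa
      have la := (length_mulM (addM M (scM 1)) (gTbl d.h)).trans (addM_length _ _)
      rw [← mat_cv hω h1 _ hr1 hr2, mat_mul hw la lB', mat_mul hw (addM_length _ _) lh, mat_add, mat_one hw,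
        ← hMa, ← mh]
      have h0 := hf a ha
      have h2 : (((a.2 : Matrix I27 I27 K) + 1) * (uGen ω 0 d.h : Matrix I27 I27 K) * mat (ω : K) d.B) *ᵥ u =
          0 := by
        rw [← Matrix.mulVec_mulVec, ← Matrix.mulVec_mulVec, Matrix.add_mulVec, Matrix.one_mulVec, h0]
        exact funext fun i => CharTwo.add_self_eq_zero _
      have h3 := congrFun h2 (pt d.pos.1)
      rw [Matrix.mulVec, dotProduct, Finset.sum_eq_single (pt d.pos.2)] at h3
      · simpa [hu, sgl, e_pt hr2] using h3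
      · intro b _ hb
        have : num27.e b ≠ d.pos.2 := fun h => hb (by rw [← h, pt_e])
        simp [hu, sgl, this]
      · simp
    cases hb : d.useSnd with
    | false =>
      rw [show d.Xh = d.X1 by simp [Data.Xh, hb]]
      exact hX e (Set.mem_insert _ _) d.X1 l1 m1
    | true =>
      rw [show d.Xh = d.X2 by simp [Data.Xh, hb]]
      exact hX e' (Set.mem_insert_of_mem _ rfl) d.X2 l2 m2

end CfsgLib.Chev.TwE6Loc
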