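import Cfsg.Agent.Lib.Chev.TwE6Loc.Data

/-!
Checks of the certificates for the primes 7, 11, 13, 17.
-/

set_option autoImplicit false
set_option maxRecDepth 100000

namespace CfsgLib.Chev.TwE6Loc

theorem c11_W : c11.okW = true := by decide +kernel

theorem c11_I : c11.okI = true := by decide +kernel

theorem c13_W : c13.okW = true := by decide +kernel

theorem c13_I : c13.okI = true := by decide +kernel

theorem c17_W : c17.okW = true := by decide +kernel

theorem c17_I : c17.okI = true := by decide +kernel

theorem c7a_W : c7a.okW = true := by decide +kernel

theorem c7a_I : c7a.okI = true := by decide +kernel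

theorem c7b_W : c7b.okW = true := by decide +kernel

theorem c7b_I : c7b.okI = true := by decide +kernel

theorem c7e_W : c7e.okW = true := by decide +kernel

theorem c7e_I : c7e.okI = true := by decide +kernel

theorem c7e1_W : c7e1.okW = true := by decide +kernel

theorem c7e1_I : c7e1.okI = true := by decide +kernel

theorem c7e2_W : c7e2.okW = true := by decide +kernel

theorem c7e2_I : c7e2.okI = true := by decide +kernel

theorem c7e3_W : c7e3.okW = true := by decide +kernel

theorem c7e3_I : c7e3.okI = true := by decide +kernel

theorem c7e4_W : c7e4.okW = true := by decide +kernel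

theorem c7e4_I : c7e4.okI = true := by decide +kernel

theorem c7e5_W : c7e5.okW = true := by decide +kernel

theorem c7e5_I : c7e5.okI = true := by decide +kernel

theorem c7e6_W : c7e6.okW = true := by decide +kernel

theorem c7e6_I : c7e6.okI = true := by decide +kernel

end CfsgLib.Chev.TwE6Loc
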