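import Cfsg.Agent.Lib.Chev.TwE6Loc.Lift
import Cfsg.Agent.Lib.Chev.TwE6Loc.DataNineteen
import Cfsg.Agent.Lib.Chev.TwistHOrders

/-!
Machine checks for the elementary abelian subgroup of order 243 and its normaliser.
-/

set_option autoImplicit false
set_option maxRecDepth 100000
set_option linter.unusedSimpArgs false
set_option linter.unusedSectionVars false

namespace CfsgLib.Chev.TwE6Loc

open Cfsg.Lie CfsgLib.Chev CfsgLib.Chev.E6C CfsgLib.Chev.F4InE6 CfsgLib.Chev.FiInE6 CfsgLib.Chev.TwE6Five
  CfsgLib.InvChar.Coset Matrix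

/-! ### Vectors of length five over the field with three elements, as numbers -/

/-- A digit. -/
def dg (v i : ℕ) : ℕ := v / 3 ^ i % 3

/-- A vector from its digits. -/
def mkV (f : ℕ → ℕ) : ℕ := f 0 + 3 * f 1 + 9 * f 2 + 27 * f 3 + 81 * f 4

/-- The sum of two vectors. -/
def addV (a b : ℕ) : ℕ := mkV fun i => (dg a i + dg b i) % 3

/-- The image of a vector under the action given by the images of the basis. -/
def applyV (A : List ℕ) (v : ℕ) : ℕ :=
  mkV fun i => (dg v 0 * dg (A.getD 0 0) i + dg v 1 * dg (A.getD 1 0) i + dg v 2 * dg (A.getD 2 0) i +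
    dg v 3 * dg (A.getD 3 0) i + dg v 4 * dg (A.getD 4 0) i) % 3

/-- The action of a listed generator. -/
def genV (i : ℕ) : List ℕ := (nAct.getD i []).map Prod.fst

theorem addV_facts : (∀ a < 243, ∀ i < 5, dg a i < 3) ∧ (∀ i < 5, ∀ j < 5, dg (3 ^ i) j = if i = j then 1 else 0) := by
  constructor
  · intro a _ i _; exact Nat.mod_lt _ (by norm_num)
  · decide +kernel

/-- The eighty-one actions form a closed list without repetition. -/
theorem img_facts : imgT.length = 81 ∧ imgT.Nodup ∧ imgT.getD 0 [] = [1, 3, 9, 27, 81] ∧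
    (∀ A ∈ imgT, A.length = 5 ∧ ∀ v ∈ A, v < 243) ∧
    (∀ A ∈ imgT, ∀ i < 4, (genV i).map (applyV A) ∈ imgT) ∧
    (∀ k < 81, (pathT.getD k []).foldl (fun A i => (genV i).map (applyV A)) [1, 3, 9, 27, 81] = imgT.getD k [] ∧
      ∀ i ∈ pathT.getD k [], i < 4) := by
  decide +kernel

theorem mkV_dg : ∀ a < 243, mkV (dg a) = a := by decide +kernel

/-! ### Checks -/

/-- The matrix with the given coordinates. -/
noncomputable def prodV (v : ℕ) : PM :=
  prodK (fun i => eM.getD i [])
    (List.replicate (dg v 0) 0 ++ List.replicate (dg v 1) 1 ++ List.replicate (dg v 2) 2 ++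
      List.replicate (dg v 3) 3 ++ List.replicate (dg v 4) 4) (scM 1)

/-- A matrix is visibly not a scalar. -/
noncomputable def notScal (M : PM) : Bool :=
  !allR (fun i => allR (fun j => bif Nat.beq i j then Nat.beq (cd (row M i) j) (cd (row M 0) 0)
    else Nat.beq (cd (row M i) j) 0) (upto 27)) (upto 27)

/-- The generators of the subgroup. -/
noncomputable def frameOK : Bool :=
  allR (fun i => wordOK (eWd.getD i []) && eqM (prodK gTbl (eWd.getD i []) (scM 1)) (eM.getD i []) &&
    eqM (prodK (fun _ => eM.getD i []) (upto 3) (scM 1)) (scM 1) &&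
    allR (fun j => eqM (mulM (eM.getD i []) (eM.getD j [])) (mulM (eM.getD j []) (eM.getD i []))) (upto 5)) (upto 5)

/-- The generators of the 3-subgroup of the normaliser. -/
noncomputable def normOK : Bool :=
  allR (fun i => wordOK (nWd.getD i []) && eqM (prodK gTbl (nWd.getD i []) (scM 1)) (nM.getD i []) &&
    eqM (mulM (nM.getD i []) (nMi.getD i [])) (scM 1) &&
    allR (fun j => Nat.blt ((nAct.getD i []).getD j (0, 0)).1 243 &&
      eqM (mulM (mulM (nM.getD i []) (eM.getD j [])) (nMi.getD i []))
        (mulM (scM ((nAct.getD i []).getD j (0, 0)).2) (prodV ((nAct.getD i []).getD j (0, 0)).1))) (upto 5))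
    (upto 4)

theorem frame_ok : frameOK = true := by decide +kernel

theorem norm_ok : normOK = true := by decide +kernel

theorem indep_ok : allR (fun v => Nat.beq v 0 || notScal (prodV v)) (upto 243) = true := by decide +kernel

end CfsgLib.Chev.TwE6Loc
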