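import Cfsg.Agent.Lib.Chev.TwE6Loc.Basic
import Cfsg.Agent.Lib.Chev.TwE6Loc.DataNineteen

/-!
Machine checks for the outer automorphism of order three centralising an element of order nineteen.
-/

set_option autoImplicit false
set_option maxRecDepth 100000

namespace CfsgLib.Chev.TwE6Loc

open CfsgLib.Chev CfsgLib.Chev.E6C CfsgLib.Chev.F4InE6 CfsgLib.Chev.FiInE6 CfsgLib.Chev.TwE6Five
  CfsgLib.InvChar.Coset

/-- The outer element sends every generator to a word. -/
noncomputable def tableOK : Bool :=
  eqM (mulM cU cUi) (scM 1) && Nat.beq cUi.length 27 && Nat.beq conjT.length 12 &&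
    allR (fun g => wordOK (conjT.getD g []) &&
      eqM (mulM (mulM cU (gTbl g)) cUi) (prodK gTbl (conjT.getD g []) (scM 1))) (upto 12)

/-- Its nineteenth power. -/
noncomputable def powOK : Bool :=
  eqM (prodK (fun _ => cU) (upto 19) (scM 1)) aU &&
    allR (fun i => allR (fun j => bif Nat.beq i j then
        Nat.beq (cd (row (prodK (fun _ => aU) (upto 3) (scM 1)) i) j) (cd (row (prodK (fun _ => aU) (upto 3) (scM 1)) 0) 0)
      else Nat.beq (cd (row (prodK (fun _ => aU) (upto 3) (scM 1)) i) j) 0) (upto 27)) (upto 27)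

/-- The element of order nineteen. -/
noncomputable def xOK19 : Bool :=
  wordOK xWd && eqM (prodK gTbl xWd (scM 1)) xM && eqM (prodK (fun _ => xM) (upto 19) (scM 1)) (scM 1) &&
    !allR (fun j => Nat.beq (cd (row xM 0) j) (bif Nat.beq 0 j then cd (row xM 0) 0 else 0)) (upto 27) &&
    eqM (mulM aU xM) (mulM xM aU)

/-- The automorphism moves a generator. -/
noncomputable def moveOK : Bool :=
  Nat.blt moveAt.1 12 && Nat.blt moveAt.2.1 27 && Nat.blt moveAt.2.2 27 &&
    !(Nat.beq (cd (row (mulM aU (gTbl moveAt.1)) moveAt.2.1) moveAt.2.2) 0 ==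
      Nat.beq (cd (row (mulM (gTbl moveAt.1) aU) moveAt.2.1) moveAt.2.2) 0)

/-- The image of the elementary abelian subgroup is a conjugate. -/
noncomputable def imageOK : Bool :=
  wordOK g0Wd && allR (fun i =>
    eqM (mulM (mulM cU (eM.getD i [])) cUi)
      (mulM (mulM (prodK gTbl g0Wd (scM 1)) (eM.getD i [])) (prodK gTbl g0Wd.reverse (scM 1)))) (upto 5) &&
    eqM (mulM (prodK gTbl g0Wd (scM 1)) (prodK gTbl g0Wd.reverse (scM 1))) (scM 1)

theorem table_ok : tableOK = true := by decide +kernel

theorem pow_ok : powOK = true := by decide +kernel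

theorem x19_ok : xOK19 = true := by decide +kernel

theorem move_ok : moveOK = true := by decide +kernel

theorem image_ok : imageOK = true := by decide +kernel

end CfsgLib.Chev.TwE6Loc
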