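import Cfsg.Agent.Lib.Chev.TwE6Loc.Basic

/-!
A proper overgroup of the normaliser of a p-subgroup of the twisted group of type E6 over the field with four
elements: the stabiliser of the fixed space of the subgroup on the 27 coordinates.
-/

set_option autoImplicit false
set_option maxRecDepth 100000
set_option linter.unusedSimpArgs false
set_option linter.unusedSectionVars false

namespace CfsgLib.Chev.TwE6Loc

open Cfsg.Lie CfsgLib.Chev CfsgLib.Chev.E6C CfsgLib.Chev.F4InE6 CfsgLib.Chev.FiInE6 CfsgLib.Chev.TwE6Five Matrix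

variable {K : Type*} [Field K]

/-- Lifts of a family of commuting elements of order dividing `p`. -/
structure Lifts (S : Set (↥(twistedE6 K 2) × GL I27 K)) (p : ℕ) : Prop where
  gam : ∀ e ∈ S, (e.2, (e.1 : GL chevE6.Idx K)) ∈ Gam K
  pow : ∀ e ∈ S, e.2 ^ p = 1
  comm : ∀ e ∈ S, ∀ e' ∈ S, e.2 * e'.2 = e'.2 * e.2

/-- The subgroup generated by a family. -/
def gp (S : Set (↥(twistedE6 K 2) × GL I27 K)) : Subgroup ↥(twistedE6 K 2) :=
  Subgroup.closure (Prod.fst '' S)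

/-- Fixed by all lifts of the family. -/
def Fixd (S : Set (↥(twistedE6 K 2) × GL I27 K)) (v : I27 → K) : Prop :=
  ∀ e ∈ S, (e.2 : Matrix I27 I27 K) *ᵥ v = v

variable [Fintype K] (hK : Fintype.card K = 4)

omit [Fintype K] in
theorem scal_eq {a b : GL I27 K} {g : GL chevE6.Idx K} (ha : (a, g) ∈ Gam K) (hb : (b, g) ∈ Gam K) :
    IsScal (a * b⁻¹) := by
  have h := mul_mem ha (inv_mem hb)
  rw [Prod.inv_mk, Prod.mk_mul_mk, mul_inv_cancel] at h
  exact gam_scalar h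

include hK in
theorem scal_cube {z : GL I27 K} (hz : IsScal z) : z ^ 3 = 1 := by
  obtain ⟨c, hc⟩ := hz
  have h0 : c ≠ 0 := fun h0 => by
    have := congrFun (congrFun z.mul_inv (pt 0)) (pt 0)
    rw [hc, h0] at this
    simp at this
  refine Units.ext ?_
  have h3 : c ^ 3 = 1 := by
    have := FiniteField.pow_card_sub_one_eq_one c h0
    rwa [hK] at this
  rw [Units.val_pow_eq_pow_val, hc, smul_pow, one_pow, h3, one_smul, Units.val_one]

include hK in
/-- Lifts of equal elements, both of order dividing a number prime to three, are equal. -/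
theorem lift_unique {a b : GL I27 K} {g : GL chevE6.Idx K} {p : ℕ} (ha : (a, g) ∈ Gam K) (hb : (b, g) ∈ Gam K)
    (hap : a ^ p = 1) (hbp : b ^ p = 1) (hp3 : Nat.Coprime p 3) : a = b := by
  have hs := scal_eq ha hb
  have hc : Commute (a * b⁻¹) b := hs.comm b
  have h1 : (a * b⁻¹) ^ p = 1 := by
    have h := hc.mul_pow p
    rw [inv_mul_cancel_right, hap, hbp, mul_one] at h
    exact h.symm
  have h2 := pow_gcd_eq_one.2 ⟨h1, scal_cube hK hs⟩
  rw [hp3, pow_one, mul_inv_eq_one] at h2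
  exact h2

variable {S : Set (↥(twistedE6 K 2) × GL I27 K)} {p : ℕ}

omit [Fintype K] in
/-- Every element of the subgroup has a lift fixing the fixed space, of order dividing `p`. -/
theorem lift_of_mem (hS : Lifts S p) {z : ↥(twistedE6 K 2)} (hz : z ∈ gp S) :
    ∃ Z : GL I27 K, (Z, (z : GL chevE6.Idx K)) ∈ Gam K ∧ Z ∈ Subgroup.closure (Prod.snd '' S) := by
  induction hz using Subgroup.closure_induction with
  | mem z hz =>
    obtain ⟨e, he, rfl⟩ := hz
    exact ⟨e.2, hS.gam e he, Subgroup.subset_closure ⟨e, he, rfl⟩⟩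
  | one => exact ⟨1, one_mem _, one_mem _⟩
  | mul a b _ _ ha hb =>
    obtain ⟨A, hA, hA'⟩ := ha
    obtain ⟨B, hB, hB'⟩ := hb
    exact ⟨A * B, mul_mem hA hB, mul_mem hA' hB'⟩
  | inv a _ ha =>
    obtain ⟨A, hA, hA'⟩ := ha
    exact ⟨A⁻¹, inv_mem hA, inv_mem hA'⟩

omit [Fintype K] in
theorem closure_fix (hS : Lifts S p) {Z : GL I27 K} (hZ : Z ∈ Subgroup.closure (Prod.snd '' S)) :
    Z ^ p = 1 ∧ (∀ v, Fixd S v → (Z : Matrix I27 I27 K) *ᵥ v = v) ∧ (∀ e ∈ S, Z * e.2 = e.2 * Z) := by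
  have hab : IsMulCommutative ↥(Subgroup.closure (Prod.snd '' S)) :=
    Subgroup.isMulCommutative_closure (by
      rintro _ ⟨e, he, rfl⟩ _ ⟨e', he', rfl⟩
      exact hS.comm e he e' he')
  induction hZ using Subgroup.closure_induction with
  | mem z hz =>
    obtain ⟨e, he, rfl⟩ := hz
    exact ⟨hS.pow e he, fun v hv => hv e he, fun e' he' => hS.comm e he e' he'⟩
  | one => exact ⟨one_pow p, fun v _ => by rw [Units.val_one, Matrix.one_mulVec], fun e _ => by simp⟩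
  | mul a b ha' hb' ha hb =>
    have hc : Commute a b := congrArg Subtype.val (hab.is_comm.comm ⟨a, ha'⟩ ⟨b, hb'⟩)
    exact ⟨by rw [hc.mul_pow, ha.1, hb.1, one_mul],
      fun v hv => by rw [Units.val_mul, ← Matrix.mulVec_mulVec, hb.2.1 v hv, ha.2.1 v hv],
      fun e he => by rw [mul_assoc, hb.2.2 e he, ← mul_assoc, ha.2.2 e he, mul_assoc]⟩
  | inv a _ ha =>
    refine ⟨by rw [inv_pow, ha.1, inv_one], fun v hv => ?_, fun e he => ?_⟩
    · conv_lhs => rw [← ha.2.1 v hv]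
      rw [Matrix.mulVec_mulVec, ← Units.val_mul, inv_mul_cancel, Units.val_one, Matrix.one_mulVec]
    · rw [inv_mul_eq_iff_eq_mul, ← mul_assoc, ha.2.2 e he, mul_inv_cancel_right]

omit [Fintype K] in
theorem scal_mulVec {s : GL I27 K} (hs : IsScal s) (v : I27 → K) :
    ∃ c : K, (s : Matrix I27 I27 K) *ᵥ v = c • v := by
  obtain ⟨c, hc⟩ := hs
  exact ⟨c, by rw [hc, Matrix.smul_mulVec, Matrix.one_mulVec]⟩

/-- The stabiliser of the fixed space. -/
noncomputable def stab (S : Set (↥(twistedE6 K 2) × GL I27 K)) : Subgroup ↥(twistedE6 K 2) where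
  carrier := {n | ∃ y : GL I27 K, (y, (n : GL chevE6.Idx K)) ∈ Gam K ∧
    ∀ v, Fixd S v ↔ Fixd S ((y : Matrix I27 I27 K) *ᵥ v)}
  one_mem' := ⟨1, one_mem _, fun v => by rw [Units.val_one, Matrix.one_mulVec]⟩
  mul_mem' := by
    rintro a b ⟨y, hy, hy'⟩ ⟨z, hz, hz'⟩
    exact ⟨y * z, mul_mem hy hz, fun v => by rw [Units.val_mul, ← Matrix.mulVec_mulVec]; exact (hz' v).trans (hy' _)⟩
  inv_mem' := by
    rintro a ⟨y, hy, hy'⟩
    refine ⟨y⁻¹, inv_mem hy, fun v => ?_⟩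
    rw [hy' ((y⁻¹ : GL I27 K) *ᵥ v), Matrix.mulVec_mulVec, ← Units.val_mul, mul_inv_cancel, Units.val_one,
      Matrix.one_mulVec]

omit [Fintype K] in
/-- An element with a lift not mapping the fixed space to itself lies outside the stabiliser. -/
theorem not_mem_stab {h : ↥(twistedE6 K 2)} {H : GL I27 K} (hH : (H, (h : GL chevE6.Idx K)) ∈ Gam K)
    {v : I27 → K} (hv : Fixd S v) (hn : ¬ Fixd S ((H : Matrix I27 I27 K) *ᵥ v)) : h ∉ stab S := by
  rintro ⟨y, hy, hy'⟩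
  obtain ⟨c, hc⟩ := scal_mulVec (scal_eq hH hy) ((y : Matrix I27 I27 K) *ᵥ v)
  refine hn fun e he => ?_
  rw [Matrix.mulVec_mulVec, ← Units.val_mul, inv_mul_cancel_right] at hc
  rw [hc, Matrix.mulVec_smul, (hy' v).1 hv e he]

include hK in
/-- The normaliser lies in the stabiliser. -/
theorem normalizer_le (hS : Lifts S p) (hp3 : Nat.Coprime p 3) :
    Subgroup.normalizer ((gp S : Subgroup _) : Set ↥(twistedE6 K 2)) ≤ stab S := by
  intro n hn
  have hn' := Subgroup.mem_normalizer_iff.1 hn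
  obtain ⟨y, hy⟩ := gam_exists (twisted_le_group n.2)
  refine ⟨y, hy, fun v => ?_⟩
  have key : ∀ (m : ↥(twistedE6 K 2)) (Y : GL I27 K), (Y, (m : GL chevE6.Idx K)) ∈ Gam K →
      (∀ z ∈ gp S, m⁻¹ * z * m ∈ gp S) → ∀ w, Fixd S w → Fixd S ((Y : Matrix I27 I27 K) *ᵥ w) := by
    intro m Y hY hm w hw e he
    obtain ⟨Z, hZ, hZ'⟩ := lift_of_mem hS (hm e.1 (Subgroup.subset_closure ⟨e, he, rfl⟩))
    obtain ⟨hZp, hZv, -⟩ := closure_fix hS hZ'
    have hZ0 : (Y⁻¹ * e.2 * Y, ((m⁻¹ * e.1 * m : ↥(twistedE6 K 2)) : GL chevE6.Idx K)) ∈ Gam K :=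
      mul_mem (mul_mem (inv_mem hY) (hS.gam e he)) hY
    have hpow : (Y⁻¹ * e.2 * Y) ^ p = 1 := by
      have := conj_pow (a := Y⁻¹) (b := e.2) (i := p)
      rw [inv_inv] at this
      rw [this, hS.pow e he, mul_one, inv_mul_cancel]
    have heq := lift_unique hK hZ0 hZ hpow hZp hp3
    have h2 := hZv w hw
    rw [← heq, Units.val_mul, Units.val_mul, ← Matrix.mulVec_mulVec, ← Matrix.mulVec_mulVec] at h2
    conv_rhs => rw [← h2]
    rw [Matrix.mulVec_mulVec _ (Y : Matrix I27 I27 K) ((Y⁻¹ : GL I27 K) : Matrix I27 I27 K), ← Units.val_mul,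
      mul_inv_cancel, Units.val_one, Matrix.one_mulVec]
  constructor
  · exact key n y hy (fun z hz => by
      have := (hn' (n⁻¹ * z * n)).2
      simpa [mul_assoc] using this (by simpa [mul_assoc] using hz)) v
  · intro hv
    have := key n⁻¹ y⁻¹ (inv_mem hy) (fun z hz => by rw [inv_inv]; exact (hn' z).1 hz) _ hv
    rwa [Matrix.mulVec_mulVec, ← Units.val_mul, inv_mul_cancel, Units.val_one, Matrix.one_mulVec] at this

include hK in
/-- The criterion. -/
theorem not_coatom (hS : Lifts S p) (hp3 : Nat.Coprime p 3) {g : ↥(twistedE6 K 2)} {G : GL I27 K}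
    (hG : (G, (g : GL chevE6.Idx K)) ∈ Gam K) (hGfix : ∀ v, Fixd S v ↔ Fixd S ((G : Matrix I27 I27 K) *ᵥ v))
    {e e' : ↥(twistedE6 K 2) × GL I27 K} (he : e ∈ S) (he' : e' ∈ S)
    (hGn : G * e.2 * G⁻¹ * e'.2 ≠ e'.2 * (G * e.2 * G⁻¹))
    {h : ↥(twistedE6 K 2)} {H : GL I27 K} (hH : (H, (h : GL chevE6.Idx K)) ∈ Gam K)
    {v : I27 → K} (hv : Fixd S v) (hn : ¬ Fixd S ((H : Matrix I27 I27 K) *ᵥ v)) :
    ¬ IsCoatom (Subgroup.normalizer ((gp S : Subgroup _) : Set ↥(twistedE6 K 2))) := by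
  intro hco
  have hlt : Subgroup.normalizer ((gp S : Subgroup _) : Set ↥(twistedE6 K 2)) < stab S := by
    refine lt_of_le_of_ne (normalizer_le hK hS hp3) fun heq => hGn ?_
    have hgn : g ∈ Subgroup.normalizer ((gp S : Subgroup _) : Set ↥(twistedE6 K 2)) :=
      heq ▸ (⟨G, hG, hGfix⟩ : g ∈ stab S)
    obtain ⟨Z, hZ, hZ'⟩ := lift_of_mem hS
      ((Subgroup.mem_normalizer_iff.1 hgn e.1).1 (Subgroup.subset_closure ⟨e, he, rfl⟩))
    obtain ⟨hZp, -, hZc⟩ := closure_fix hS hZ'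
    have hG' : (G * e.2 * G⁻¹, ((g * e.1 * g⁻¹ : ↥(twistedE6 K 2)) : GL chevE6.Idx K)) ∈ Gam K :=
      mul_mem (mul_mem hG (hS.gam e he)) (inv_mem hG)
    have hpow : (G * e.2 * G⁻¹) ^ p = 1 := by rw [conj_pow, hS.pow e he, mul_one, mul_inv_cancel]
    have heq' := lift_unique hK hG' hZ hpow hZp hp3
    rw [heq']
    exact hZc e' he'
  exact not_mem_stab hH hv hn (hco.2 _ hlt ▸ Subgroup.mem_top h)

end CfsgLib.Chev.TwE6Loc
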