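import Cfsg.Agent.Lib.Chev.TwE6Loc.Lift
import Cfsg.Agent.Lib.Chev.TwE6Loc.ChecksNineteen
import Cfsg.Agent.Lib.Chev.TwistHOrders

/-!
An elementary abelian subgroup of order 243 of the twisted group of type E6 over the field with four elements
whose normaliser contains a Sylow 3-subgroup.
-/

set_option autoImplicit false
set_option maxRecDepth 100000
set_option linter.unusedSimpArgs false
set_option linter.unusedSectionVars false

namespace CfsgLib.Chev.TwE6Loc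

open Cfsg.Lie CfsgLib.Chev CfsgLib.Chev.E6C CfsgLib.Chev.F4InE6 CfsgLib.Chev.FiInE6 CfsgLib.Chev.TwE6Five
  CfsgLib.InvChar.Coset Matrix

theorem five_add {M : Type*} [CommMonoid M] (e : ℕ → M) (a b : ℕ → ℕ) :
    e 0 ^ a 0 * e 0 ^ b 0 * (e 1 ^ a 1 * e 1 ^ b 1) * (e 2 ^ a 2 * e 2 ^ b 2) * (e 3 ^ a 3 * e 3 ^ b 3) *
      (e 4 ^ a 4 * e 4 ^ b 4) =
    e 0 ^ a 0 * e 1 ^ a 1 * e 2 ^ a 2 * e 3 ^ a 3 * e 4 ^ a 4 *
      (e 0 ^ b 0 * e 1 ^ b 1 * e 2 ^ b 2 * e 3 ^ b 3 * e 4 ^ b 4) := by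
  simp only [mul_comm, mul_assoc, mul_left_comm]

theorem five_table {M : Type*} [CommMonoid M] (e : ℕ → M) (c : ℕ → ℕ) (w : ℕ → ℕ → ℕ) :
    e 0 ^ (c 0 * w 0 0 + c 1 * w 1 0 + c 2 * w 2 0 + c 3 * w 3 0 + c 4 * w 4 0) *
      e 1 ^ (c 0 * w 0 1 + c 1 * w 1 1 + c 2 * w 2 1 + c 3 * w 3 1 + c 4 * w 4 1) *
      e 2 ^ (c 0 * w 0 2 + c 1 * w 1 2 + c 2 * w 2 2 + c 3 * w 3 2 + c 4 * w 4 2) *
      e 3 ^ (c 0 * w 0 3 + c 1 * w 1 3 + c 2 * w 2 3 + c 3 * w 3 3 + c 4 * w 4 3) *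
      e 4 ^ (c 0 * w 0 4 + c 1 * w 1 4 + c 2 * w 2 4 + c 3 * w 3 4 + c 4 * w 4 4) =
    (e 0 ^ w 0 0 * e 1 ^ w 0 1 * e 2 ^ w 0 2 * e 3 ^ w 0 3 * e 4 ^ w 0 4) ^ c 0 *
      (e 0 ^ w 1 0 * e 1 ^ w 1 1 * e 2 ^ w 1 2 * e 3 ^ w 1 3 * e 4 ^ w 1 4) ^ c 1 *
      (e 0 ^ w 2 0 * e 1 ^ w 2 1 * e 2 ^ w 2 2 * e 3 ^ w 2 3 * e 4 ^ w 2 4) ^ c 2 *
      (e 0 ^ w 3 0 * e 1 ^ w 3 1 * e 2 ^ w 3 2 * e 3 ^ w 3 3 * e 4 ^ w 3 4) ^ c 3 *
      (e 0 ^ w 4 0 * e 1 ^ w 4 1 * e 2 ^ w 4 2 * e 3 ^ w 4 3 * e 4 ^ w 4 4) ^ c 4 := by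
  have h1 : ∀ (x : ℕ → ℕ) k, (e 0 ^ x 0 * e 1 ^ x 1 * e 2 ^ x 2 * e 3 ^ x 3 * e 4 ^ x 4) ^ k =
      e 0 ^ (k * x 0) * e 1 ^ (k * x 1) * e 2 ^ (k * x 2) * e 3 ^ (k * x 3) * e 4 ^ (k * x 4) := fun x k => by
    simp only [mul_pow, ← pow_mul, Nat.mul_comm k]
  have h2 : ∀ x y : ℕ → ℕ, e 0 ^ x 0 * e 1 ^ x 1 * e 2 ^ x 2 * e 3 ^ x 3 * e 4 ^ x 4 *
      (e 0 ^ y 0 * e 1 ^ y 1 * e 2 ^ y 2 * e 3 ^ y 3 * e 4 ^ y 4) = e 0 ^ (x 0 + y 0) * e 1 ^ (x 1 + y 1) *
      e 2 ^ (x 2 + y 2) * e 3 ^ (x 3 + y 3) * e 4 ^ (x 4 + y 4) := fun x y => by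
    simp only [pow_add]; exact (five_add e x y).symm
  rw [h1, h1, h1, h1, h1, h2 (fun j => c 0 * w 0 j) (fun j => c 1 * w 1 j),
    h2 (fun j => c 0 * w 0 j + c 1 * w 1 j) (fun j => c 2 * w 2 j),
    h2 (fun j => c 0 * w 0 j + c 1 * w 1 j + c 2 * w 2 j) (fun j => c 3 * w 3 j),
    h2 (fun j => c 0 * w 0 j + c 1 * w 1 j + c 2 * w 2 j + c 3 * w 3 j) (fun j => c 4 * w 4 j)]

variable {K : Type*} [Field K] [CharP K 2] {ω : Kˣ} (hω : ω ^ 3 = 1) (h1 : ω ≠ 1)

/-- The generators. -/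
noncomputable def eT' (i : ℕ) : ↥(twistedE6 K 2) := tW hω h1 (eWd.getD i [])

/-- The element with given coordinates. -/
noncomputable def ev (v : ℕ) : ↥(twistedE6 K 2) :=
  eT' hω h1 0 ^ dg v 0 * eT' hω h1 1 ^ dg v 1 * eT' hω h1 2 ^ dg v 2 * eT' hω h1 3 ^ dg v 3 * eT' hω h1 4 ^ dg v 4

include hω h1

theorem e_mat {i : ℕ} (hi : i < 5) : (eM.getD i []).length = 27 ∧
    (uW ω (eWd.getD i []) : Matrix I27 I27 K) = mat (ω : K) (eM.getD i []) := by
  have h := allR_upto frame_ok hi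
  simp only [Bool.and_eq_true] at h
  exact word_mat hω h1 h.1.1.1 h.1.1.2

theorem e_pow {i : ℕ} (hi : i < 5) : eT' hω h1 i ^ 3 = 1 := by
  have h := allR_upto frame_ok hi
  simp only [Bool.and_eq_true] at h
  obtain ⟨l, m⟩ := e_mat hω h1 hi
  obtain ⟨-, he⟩ := prodK_one hω h1 (f := fun _ => uW ω (eWd.getD i [])) (fun x _ => ⟨l, m⟩) h.1.2
  refine Subtype.ext (gam_trivial ?_)
  have h2 := pow_mem (word_gam ω (eWd.getD i [])) 3
  rwa [Prod.pow_mk, show uW ω (eWd.getD i []) ^ 3 = 1 from Units.ext (by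
    rw [Units.val_one, ← mat_one (omega_sq hω h1), ← he, List.map_const', List.prod_replicate, E6C.upto_eq,
      List.length_range])] at h2

theorem e_comm {i j : ℕ} (hi : i < 5) (hj : j < 5) : Commute (eT' hω h1 i) (eT' hω h1 j) := by
  have h := allR_upto frame_ok hi
  simp only [Bool.and_eq_true] at h
  obtain ⟨li, mi⟩ := e_mat hω h1 hi
  obtain ⟨lj, mj⟩ := e_mat hω h1 hj
  refine Subtype.ext (pair_eq hω h1 (mul_mem (word_gam ω _) (word_gam ω _))
    (mul_mem (word_gam ω _) (word_gam ω _)) ?_)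
  rw [Units.val_mul, Units.val_mul, mi, mj, ← mat_mul (omega_sq hω h1) li lj, ← mat_mul (omega_sq hω h1) lj li]
  exact (eqM_spec (ω : K) (allR_upto h.2 hj)).2.2

/-- The subgroup. -/
noncomputable def frame : Subgroup ↥(twistedE6 K 2) := Subgroup.closure (Set.range fun i : Fin 5 => eT' hω h1 i)

theorem gen_mem {i : ℕ} (hi : i < 5) : eT' hω h1 i ∈ frame hω h1 := Subgroup.subset_closure ⟨⟨i, hi⟩, rfl⟩

theorem ev_mem (v : ℕ) : ev hω h1 v ∈ frame hω h1 :=
  mul_mem (mul_mem (mul_mem (mul_mem (pow_mem (gen_mem hω h1 (by norm_num)) _)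
    (pow_mem (gen_mem hω h1 (by norm_num)) _)) (pow_mem (gen_mem hω h1 (by norm_num)) _))
    (pow_mem (gen_mem hω h1 (by norm_num)) _)) (pow_mem (gen_mem hω h1 (by norm_num)) _)

theorem frame_comm : IsMulCommutative ↥(frame hω h1) :=
  Subgroup.isMulCommutative_closure (by
    rintro _ ⟨i, rfl⟩ _ ⟨j, rfl⟩
    exact (e_comm hω h1 i.2 j.2).eq)

theorem frame_pow {x : ↥(twistedE6 K 2)} (hx : x ∈ frame hω h1) : x ^ 3 = 1 := by
  induction hx using Subgroup.closure_induction with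
  | mem x hx =>
    obtain ⟨i, rfl⟩ := hx
    exact e_pow hω h1 i.2
  | one => simp
  | mul a b ha hb iha ihb =>
    have hc : Commute a b := congrArg Subtype.val ((frame_comm hω h1).is_comm.comm ⟨a, ha⟩ ⟨b, hb⟩)
    rw [hc.mul_pow, iha, ihb, one_mul]
  | inv a _ ih => rw [inv_pow, ih, inv_one]

omit hω h1 in
theorem dg_mkV (f : ℕ → ℕ) (hf : ∀ i, f i < 3) : mkV f < 243 ∧ ∀ i < 5, dg (mkV f) i = f i := by
  have h0 := hf 0; have h1' := hf 1; have h2 := hf 2; have h3 := hf 3; have h4 := hf 4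
  refine ⟨by simp only [mkV]; omega, fun i hi => ?_⟩
  interval_cases i <;> simp only [dg, mkV] <;> norm_num <;> omega

theorem ev_table (A : List ℕ) (v : ℕ) :
    ev hω h1 (A.getD 0 0) ^ dg v 0 * ev hω h1 (A.getD 1 0) ^ dg v 1 * ev hω h1 (A.getD 2 0) ^ dg v 2 *
      ev hω h1 (A.getD 3 0) ^ dg v 3 * ev hω h1 (A.getD 4 0) ^ dg v 4 = ev hω h1 (applyV A v) := by
  letI : CommGroup ↥(frame hω h1) :=
    { (inferInstance : Group ↥(frame hω h1)) with mul_comm := (frame_comm hω h1).is_comm.comm }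
  let e : ℕ → ↥(frame hω h1) := fun i => if h : i < 5 then ⟨eT' hω h1 i, gen_mem hω h1 h⟩ else 1
  let evE : (ℕ → ℕ) → ↥(frame hω h1) := fun f => e 0 ^ f 0 * e 1 ^ f 1 * e 2 ^ f 2 * e 3 ^ f 3 * e 4 ^ f 4
  have hev : ∀ w, ev hω h1 w = (evE (dg w) : ↥(twistedE6 K 2)) := fun w => by simp [evE, e, ev]
  have hmod : ∀ f, evE (fun i => f i % 3) = evE f := by
    intro f
    have h3 : ∀ i < 5, ∀ k, e i ^ (k % 3) = e i ^ k := fun i hi k => by
      refine (pow_eq_pow_mod k (Subtype.ext ?_)).symm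
      simp [e, hi, e_pow hω h1 hi]
    simp only [evE]
    rw [h3 0 (by norm_num), h3 1 (by norm_num), h3 2 (by norm_num), h3 3 (by norm_num), h3 4 (by norm_num)]
  have hlin : ev hω h1 (applyV A v) = (((evE (dg (A.getD 0 0))) ^ dg v 0 * (evE (dg (A.getD 1 0))) ^ dg v 1 *
      (evE (dg (A.getD 2 0))) ^ dg v 2 * (evE (dg (A.getD 3 0))) ^ dg v 3 *
      (evE (dg (A.getD 4 0))) ^ dg v 4 : ↥(frame hω h1)) : ↥(twistedE6 K 2)) := by
    rw [hev]
    refine congrArg Subtype.val ?_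
    have hd : ∀ i < 5, dg (applyV A v) i = (dg v 0 * dg (A.getD 0 0) i + dg v 1 * dg (A.getD 1 0) i +
        dg v 2 * dg (A.getD 2 0) i + dg v 3 * dg (A.getD 3 0) i + dg v 4 * dg (A.getD 4 0) i) % 3 :=
      (dg_mkV _ fun i => Nat.mod_lt _ (by norm_num)).2
    rw [show evE (dg (applyV A v)) = evE (fun i => (dg v 0 * dg (A.getD 0 0) i + dg v 1 * dg (A.getD 1 0) i +
        dg v 2 * dg (A.getD 2 0) i + dg v 3 * dg (A.getD 3 0) i + dg v 4 * dg (A.getD 4 0) i) % 3) by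
      simp only [evE, hd 0 (by norm_num), hd 1 (by norm_num), hd 2 (by norm_num), hd 3 (by norm_num),
        hd 4 (by norm_num)],
      hmod fun i => dg v 0 * dg (A.getD 0 0) i + dg v 1 * dg (A.getD 1 0) i + dg v 2 * dg (A.getD 2 0) i +
        dg v 3 * dg (A.getD 3 0) i + dg v 4 * dg (A.getD 4 0) i]
    exact five_table e (dg v) fun i => dg (A.getD i 0)
  rw [hlin]
  simp only [Subgroup.coe_mul, SubmonoidClass.coe_pow, ← hev]

theorem ev_unit {i : ℕ} (hi : i < 5) : ev hω h1 (3 ^ i) = eT' hω h1 i := by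
  simp only [ev, addV_facts.2 i hi 0 (by norm_num), addV_facts.2 i hi 1 (by norm_num),
    addV_facts.2 i hi 2 (by norm_num), addV_facts.2 i hi 3 (by norm_num), addV_facts.2 i hi 4 (by norm_num)]
  interval_cases i <;> simp

theorem prodV_lift (v : ℕ) : ∃ y : GL I27 K, (y, ((ev hω h1 v : ↥(twistedE6 K 2)) : GL chevE6.Idx K)) ∈ Gam K ∧
    (prodV v).length = 27 ∧ (y : Matrix I27 I27 K) = mat (ω : K) (prodV v) := by
  have hw := omega_sq hω h1
  set L := List.replicate (dg v 0) 0 ++ List.replicate (dg v 1) 1 ++ List.replicate (dg v 2) 2 ++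
      List.replicate (dg v 3) 3 ++ List.replicate (dg v 4) 4 with hL
  have hL5 : ∀ x ∈ L, x < 5 := fun x hx => by
    simp only [hL, List.mem_append, List.mem_replicate] at hx
    omega
  obtain ⟨hlen, hm⟩ := prodK_spec hω h1 (tbl := fun i => eM.getD i []) L (scM 1)
    (fun x hx => (e_mat hω h1 (hL5 x hx)).1) (scM_length 1)
  refine ⟨(L.map fun i => uW ω (eWd.getD i [])).prod, ?_, hlen, ?_⟩
  · have h := prod_mem_gam (fun i => uW ω (eWd.getD i [])) (fun i => xW ω (eWd.getD i []))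
      (L := L) fun i _ => word_gam ω _
    convert h using 2
    simp [hL, ev, eT', tW, mul_assoc]
  · rw [show prodV v = prodK (fun i => eM.getD i []) L (scM 1) from rfl, hm, mat_one hw, one_mul,
      ← Units.coeHom_apply, map_list_prod, List.map_map]
    exact congrArg List.prod (List.map_congr_left fun i hi => (e_mat hω h1 (hL5 i hi)).2)

theorem ev_ne_one {v : ℕ} (hv : v < 243) (h0 : v ≠ 0) : ev hω h1 v ≠ 1 := by
  intro he
  obtain ⟨y, hy, -, hm⟩ := prodV_lift hω h1 v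
  rw [he] at hy
  obtain ⟨c, hc⟩ := gam_scalar hy
  have h := allR_upto indep_ok hv
  rw [show Nat.beq v 0 = false by simpa [natBeq] using h0, Bool.false_or, notScal, Bool.not_eq_true',
    ← Bool.not_eq_true] at h
  refine h ?_
  rw [allR_eq, List.all_eq_true]
  intro i hi
  rw [allR_eq, List.all_eq_true]
  intro j hj
  have hi' : i < 27 := by rw [E6C.upto_eq] at hi; exact List.mem_range.1 hi
  have hj' : j < 27 := by rw [E6C.upto_eq] at hj; exact List.mem_range.1 hj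
  have key : ∀ a b, a < 27 → b < 27 → cv ω (cd (row (prodV v) a) b) = if a = b then c else 0 := by
    intro a b ha hb
    rw [← mat_cv hω h1 _ ha hb, ← hm, hc, Matrix.smul_apply, Matrix.one_apply, smul_eq_mul]
    by_cases e : a = b
    · subst e; simp
    · rw [if_neg e, if_neg fun h => e (by rw [← e_pt ha, h, e_pt hb]), mul_zero]
  have eq_of : ∀ a b, a < 4 → b < 4 → cv ω a = cv ω b → a = b := fun a b ha hb e => by
    have h0 : cv ω (addc a b) = 0 := by rw [cv_addc hω h1, e, CharTwo.add_self_eq_zero]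
    exact (by decide +kernel : ∀ a < 4, ∀ b < 4, addc a b = 0 → a = b) a ha b hb
      (cv_eq_zero hω h1 (cd_lt _ _) h0)
  by_cases e : i = j
  · subst e
    rw [show Nat.beq i i = true by simp [natBeq], cond_true, natBeq, decide_eq_true_eq]
    exact eq_of _ _ (cd_lt _ _) (cd_lt _ _) (by rw [key i i hi' hi', key 0 0 (by norm_num) (by norm_num)]; simp)
  · rw [show Nat.beq i j = false by simp [natBeq, e], cond_false, natBeq, decide_eq_true_eq]
    exact cv_eq_zero hω h1 (cd_lt _ _) (by rw [key i j hi' hj', if_neg e])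

theorem ev_zero : ev hω h1 0 = 1 := by simp [ev, dg]

theorem ev_add (a b : ℕ) : ev hω h1 (addV a b) = ev hω h1 a * ev hω h1 b := by
  letI : CommGroup ↥(frame hω h1) :=
    { (inferInstance : Group ↥(frame hω h1)) with mul_comm := (frame_comm hω h1).is_comm.comm }
  let e : ℕ → ↥(frame hω h1) := fun i => if h : i < 5 then ⟨eT' hω h1 i, gen_mem hω h1 h⟩ else 1
  have hev : ∀ w, ev hω h1 w = ((e 0 ^ dg w 0 * e 1 ^ dg w 1 * e 2 ^ dg w 2 * e 3 ^ dg w 3 * e 4 ^ dg w 4 : ↥(frame hω h1)) :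
      ↥(twistedE6 K 2)) := fun w => by simp [e, ev]
  rw [hev, hev, hev, ← Subgroup.coe_mul]
  refine congrArg Subtype.val ?_
  have hd : ∀ i < 5, e i ^ dg (addV a b) i = e i ^ dg a i * e i ^ dg b i := fun i hi => by
    rw [addV, (dg_mkV _ fun i => Nat.mod_lt _ (by norm_num)).2 i hi, ← pow_add]
    refine (pow_eq_pow_mod _ (Subtype.ext ?_)).symm
    simp [e, hi, e_pow hω h1 hi]
  rw [hd 0 (by norm_num), hd 1 (by norm_num), hd 2 (by norm_num), hd 3 (by norm_num), hd 4 (by norm_num)]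
  exact five_add e (dg a) (dg b)

theorem ev_inj {a b : ℕ} (ha : a < 243) (hb : b < 243) (h : ev hω h1 a = ev hω h1 b) : a = b := by
  have h3 : addV a (addV b b) = 0 := by
    by_contra h0
    refine ev_ne_one hω h1 (dg_mkV _ fun i => Nat.mod_lt _ (by norm_num)).1 h0 ?_
    show ev hω h1 (addV a (addV b b)) = 1
    rw [ev_add, ev_add, h, ← mul_assoc, ← pow_three', frame_pow hω h1 (ev_mem hω h1 b)]
  have hdig : ∀ i < 5, dg a i = dg b i := fun i hi => by
    have e1 := (dg_mkV (fun i => (dg a i + dg (addV b b) i) % 3) fun i => Nat.mod_lt _ (by norm_num)).2 i hi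
    have e2 : dg (addV b b) i = (dg b i + dg b i) % 3 :=
      (dg_mkV (fun i => (dg b i + dg b i) % 3) fun i => Nat.mod_lt _ (by norm_num)).2 i hi
    rw [show mkV (fun i => (dg a i + dg (addV b b) i) % 3) = 0 from h3, show dg 0 i = 0 by simp [dg], e2] at e1
    have ha3 : dg a i < 3 := Nat.mod_lt _ (by norm_num)
    have hb3 : dg b i < 3 := Nat.mod_lt _ (by norm_num)
    omega
  rw [← mkV_dg a ha, ← mkV_dg b hb]
  simp only [mkV, hdig 0 (by norm_num), hdig 1 (by norm_num), hdig 2 (by norm_num), hdig 3 (by norm_num),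
    hdig 4 (by norm_num)]

theorem mem_iff {x : ↥(twistedE6 K 2)} : x ∈ frame hω h1 ↔ ∃ v < 243, ev hω h1 v = x := by
  refine ⟨fun hx => ?_, fun ⟨v, _, hv⟩ => hv ▸ ev_mem hω h1 v⟩
  induction hx using Subgroup.closure_induction with
  | mem x hx =>
    obtain ⟨i, rfl⟩ := hx
    exact ⟨3 ^ (i : ℕ), by
      calc 3 ^ (i : ℕ) ≤ 3 ^ 4 := Nat.pow_le_pow_right (by norm_num) (Nat.le_of_lt_succ i.2)
        _ < 243 := by norm_num, ev_unit hω h1 i.2⟩
  | one => exact ⟨0, by norm_num, ev_zero hω h1⟩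
  | mul a b _ _ iha ihb =>
    obtain ⟨u, -, rfl⟩ := iha
    obtain ⟨w, -, rfl⟩ := ihb
    exact ⟨addV u w, (dg_mkV _ fun i => Nat.mod_lt _ (by norm_num)).1, ev_add hω h1 u w⟩
  | inv a ha iha =>
    obtain ⟨u, -, rfl⟩ := iha
    refine ⟨addV u u, (dg_mkV _ fun i => Nat.mod_lt _ (by norm_num)).1, ?_⟩
    rw [ev_add, eq_inv_iff_mul_eq_one, ← pow_three', frame_pow hω h1 (ev_mem hω h1 u)]

theorem card_frame : Nat.card ↥(frame hω h1) = 243 := by
  rw [← Nat.card_fin 243]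
  refine (Nat.card_eq_of_bijective (fun v : Fin 243 => (⟨ev hω h1 v, ev_mem hω h1 v⟩ : ↥(frame hω h1))) ⟨?_, ?_⟩).symm
  · exact fun a b h => Fin.ext (ev_inj hω h1 a.2 b.2 (congrArg Subtype.val h))
  · rintro ⟨x, hx⟩
    obtain ⟨v, hv, rfl⟩ := (mem_iff hω h1).1 hx
    exact ⟨⟨v, hv⟩, rfl⟩

/-- The generators of the 3-subgroup of the normaliser. -/
noncomputable def nT' (i : ℕ) : ↥(twistedE6 K 2) := tW hω h1 (nWd.getD i [])

theorem n_act {i j : ℕ} (hi : i < 4) (hj : j < 5) :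
    nT' hω h1 i * eT' hω h1 j * (nT' hω h1 i)⁻¹ = ev hω h1 ((genV i).getD j 0) := by
  have h := allR_upto norm_ok hi
  simp only [Bool.and_eq_true] at h
  obtain ⟨ln, mn⟩ := word_mat hω h1 h.1.1.1 h.1.1.2
  have hj' := allR_upto h.2 hj
  simp only [Bool.and_eq_true] at hj'
  obtain ⟨hmul, -, hinv⟩ := eqM_spec (ω : K) h.1.2
  rw [length_mulM] at hmul
  have li : (nMi.getD i []).length = 27 := by
    have : ∀ i < 4, (nMi.getD i []).length = 27 := by decide +kernel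
    exact this i hi
  have hw := omega_sq hω h1
  rw [mat_mul hw ln li, mat_one hw, ← mn] at hinv
  have hu : (((uW ω (nWd.getD i []))⁻¹ : GL I27 K) : Matrix I27 I27 K) = mat (ω : K) (nMi.getD i []) :=
    Units.inv_eq_of_mul_eq_one_right hinv
  obtain ⟨le, me⟩ := e_mat hω h1 hj
  have hgv : (genV i).getD j 0 = ((nAct.getD i []).getD j (0, 0)).1 := by
    rw [genV, ← List.getD_map (f := Prod.fst)]
  rw [hgv]
  set c := ((nAct.getD i []).getD j (0, 0)).2
  set v := ((nAct.getD i []).getD j (0, 0)).1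
  obtain ⟨y, hy, ly, my⟩ := prodV_lift hω h1 v
  have hl := mul_mem (mul_mem (word_gam ω (nWd.getD i [])) (word_gam ω (eWd.getD j [])))
    (inv_mem (word_gam ω (nWd.getD i [])))
  have hs := mul_mem hl (inv_mem hy)
  rw [Prod.mk_mul_mk, Prod.inv_mk, Prod.mk_mul_mk, Prod.inv_mk, Prod.mk_mul_mk] at hs
  have hsc : IsScal (uW ω (nWd.getD i []) * uW ω (eWd.getD j []) * (uW ω (nWd.getD i []))⁻¹ * y⁻¹) := by
    refine ⟨emb (ω : K) c, ?_⟩
    have l1 := (length_mulM (nM.getD i []) (eM.getD j [])).trans ln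
    have he := (eqM_spec (ω : K) hj'.2).2.2
    rw [mat_mul hw l1 li, mat_mul hw ln le, mat_mul hw (scM_length c) ly, mat_scM hw, ← mn, ← me, ← hu, ← my,
      smul_mul_assoc, one_mul] at he
    rw [Units.val_mul, Units.val_mul, Units.val_mul, he, smul_mul_assoc, ← Units.val_mul, mul_inv_cancel,
      Units.val_one]
  exact Subtype.ext (mul_inv_eq_one.1 (gam_scalar_trivial hsc hs))

variable [Fintype K] (hK : Fintype.card K = 4)
include hK

/-- The normaliser has index prime to three. -/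
theorem three_pow_dvd_normalizer :
    3 ^ 9 ∣ Nat.card (Subgroup.normalizer ((frame hω h1 : Subgroup _) : Set ↥(twistedE6 K 2))) := by
  classical
  haveI : Finite ↥(twistedE6 K 2) :=
    Nat.finite_of_card_ne_zero (by
      have h := card_twistedE6 K (q := 2) (Nat.prime_two.isPrimePow) (by rw [hK]; norm_num)
      intro h0
      rw [h0] at h
      norm_num at h)
  haveI : Finite ↥(frame hω h1) := inferInstance
  haveI := frame_comm hω h1
  set N := Subgroup.normalizer ((frame hω h1 : Subgroup _) : Set ↥(twistedE6 K 2))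
  let ψ : ↥N →* MulAut ↥(frame hω h1) := Subgroup.normalizerMonoidHom (frame hω h1)
  have hψ : ∀ (n : ↥N) (x : ↥(frame hω h1)),
      ((ψ n x : ↥(frame hω h1)) : ↥(twistedE6 K 2)) = n.1 * x.1 * n.1⁻¹ := fun n x => rfl
  have hgenV : ∀ i < 4, ∀ j < 5, (genV i).getD j 0 < 243 := by decide +kernel
  have hn : ∀ i < 4, nT' hω h1 i ∈ N := by
    intro i hi
    have hle : (frame hω h1).map (MulAut.conj (nT' hω h1 i)).toMonoidHom ≤ frame hω h1 := by
      rw [frame, MonoidHom.map_closure, Subgroup.closure_le]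
      rintro _ ⟨_, ⟨j, rfl⟩, rfl⟩
      show nT' hω h1 i * eT' hω h1 j * (nT' hω h1 i)⁻¹ ∈ _
      rw [n_act hω h1 hi j.2]
      exact ev_mem hω h1 _
    have heq := Subgroup.eq_of_le_of_card_ge hle
      (Subgroup.card_map_of_injective (MulAut.conj (nT' hω h1 i)).injective).ge
    refine Subgroup.mem_normalizer_iff.2 fun x => ?_
    conv_rhs => rw [← heq]
    exact (Subgroup.mem_map_iff_mem (f := (MulAut.conj (nT' hω h1 i)).toMonoidHom)
      (MulAut.conj (nT' hω h1 i)).injective (K := frame hω h1) (x := x)).symm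
  let s : Fin 4 → MulAut ↥(frame hω h1) := fun i => ψ ⟨nT' hω h1 i, hn i i.2⟩
  -- an automorphism acts by a given table
  let Acts : MulAut ↥(frame hω h1) → List ℕ → Prop := fun σ A => ∀ j, (hj : j < 5) →
    ((σ ⟨eT' hω h1 j, gen_mem hω h1 hj⟩ : ↥(frame hω h1)) : ↥(twistedE6 K 2)) = ev hω h1 (A.getD j 0)
  have hlin : ∀ σ A, Acts σ A → ∀ v, ((σ ⟨ev hω h1 v, ev_mem hω h1 v⟩ : ↥(frame hω h1)) : ↥(twistedE6 K 2)) =
      ev hω h1 (applyV A v) := by
    intro σ A hA v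
    let e : ℕ → ↥(frame hω h1) := fun i => if h : i < 5 then ⟨eT' hω h1 i, gen_mem hω h1 h⟩ else 1
    have hv : (⟨ev hω h1 v, ev_mem hω h1 v⟩ : ↥(frame hω h1)) =
        e 0 ^ dg v 0 * e 1 ^ dg v 1 * e 2 ^ dg v 2 * e 3 ^ dg v 3 * e 4 ^ dg v 4 :=
      Subtype.ext (by simp [e, ev])
    have := ev_table hω h1 A v
    rw [hv, map_mul, map_mul, map_mul, map_mul, map_pow, map_pow, map_pow, map_pow, map_pow, Subgroup.coe_mul,
      Subgroup.coe_mul, Subgroup.coe_mul, Subgroup.coe_mul, SubmonoidClass.coe_pow, SubmonoidClass.coe_pow,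
      SubmonoidClass.coe_pow, SubmonoidClass.coe_pow, SubmonoidClass.coe_pow]
    simp only [e, show (0 : ℕ) < 5 by norm_num, show (1 : ℕ) < 5 by norm_num, show (2 : ℕ) < 5 by norm_num,
      show (3 : ℕ) < 5 by norm_num, show (4 : ℕ) < 5 by norm_num, dif_pos]
    rw [hA 0 (by norm_num), hA 1 (by norm_num), hA 2 (by norm_num), hA 3 (by norm_num), hA 4 (by norm_num), this]
  have hone : Acts 1 [1, 3, 9, 27, 81] := by
    intro j hj
    show eT' hω h1 j = _
    rw [← ev_unit hω h1 hj]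
    interval_cases j <;> rfl
  have hstep : ∀ σ A (i : Fin 4), Acts σ A → Acts (σ * s i) ((genV i).map (applyV A)) := by
    intro σ A i hA j hj
    rw [MulAut.mul_apply]
    have h1' : s i ⟨eT' hω h1 j, gen_mem hω h1 hj⟩ = ⟨ev hω h1 ((genV i).getD j 0), ev_mem hω h1 _⟩ :=
      Subtype.ext (by rw [hψ]; exact n_act hω h1 i.2 hj)
    rw [h1', hlin σ A hA]
    congr 1
    have hlen : ∀ i < 4, (genV i).length = 5 := by decide +kernel
    rw [List.getD_eq_getElem _ _ (by rw [hlen i i.2]; exact hj), List.getD_eq_getElem _ _ (by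
      rw [List.length_map, hlen i i.2]; exact hj), List.getElem_map]
  have hext : ∀ σ τ : MulAut ↥(frame hω h1),
      (∀ j, (hj : j < 5) → σ ⟨eT' hω h1 j, gen_mem hω h1 hj⟩ = τ ⟨eT' hω h1 j, gen_mem hω h1 hj⟩) → σ = τ := by
    intro σ τ h
    refine MulEquiv.ext fun ⟨x, hx⟩ => ?_
    induction hx using Subgroup.closure_induction with
    | mem x hx =>
      obtain ⟨i, rfl⟩ := hx
      exact h i i.2
    | one => exact (map_one σ).trans (map_one τ).symm
    | mul a b ha hb iha ihb =>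
      have e : (⟨a * b, mul_mem ha hb⟩ : ↥(frame hω h1)) = ⟨a, ha⟩ * ⟨b, hb⟩ := rfl
      rw [e, map_mul, map_mul]; exact congrArg₂ (· * ·) iha ihb
    | inv a ha iha =>
      have e : (⟨a⁻¹, inv_mem ha⟩ : ↥(frame hω h1)) = (⟨a, ha⟩)⁻¹ := rfl
      rw [e, map_inv, map_inv]; exact congrArg Inv.inv iha
  obtain ⟨f1, f2, f3, f4, f5, f6⟩ := img_facts
  set S := Subgroup.closure (Set.range s)
  have hSmem : ∀ σ ∈ S, ∃ A ∈ imgT, Acts σ A := by
    intro σ hσ
    rw [← Subgroup.mem_toSubmonoid, Subgroup.closure_toSubmonoid_of_finite] at hσ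
    induction hσ using Submonoid.closure_induction_right with
    | one =>
      refine ⟨_, ?_, hone⟩
      rw [← f3, List.getD_eq_getElem _ _ (show (0 : ℕ) < imgT.length by rw [f1]; norm_num)]
      exact List.getElem_mem _
    | mul_right a _ b hb iha =>
      obtain ⟨i, rfl⟩ := hb
      obtain ⟨A, hA, hA'⟩ := iha
      exact ⟨_, f5 A hA i i.2, hstep a A i hA'⟩
  have hreal : ∀ k < 81, ∃ σ ∈ S, Acts σ (imgT.getD k []) := by
    intro k hk
    rw [← (f6 k hk).1]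
    have : ∀ (P : List ℕ), (∀ i ∈ P, i < 4) → ∀ σ ∈ S, ∀ A, Acts σ A →
        ∃ τ ∈ S, Acts τ (P.foldl (fun A i => (genV i).map (applyV A)) A) := by
      intro P
      induction P with
      | nil => exact fun _ σ hσ A hA => ⟨σ, hσ, hA⟩
      | cons i P ih =>
        intro hP σ hσ A hA
        exact ih (fun x hx => hP x (List.mem_cons_of_mem _ hx)) _
          (mul_mem hσ (Subgroup.subset_closure ⟨⟨i, hP i List.mem_cons_self⟩, rfl⟩)) _ (hstep σ A _ hA)
    exact this _ (f6 k hk).2 1 (one_mem _) _ hone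
  choose σ hσ hσA using hreal
  have hcardS : Nat.card S = 81 := by
    rw [← Nat.card_fin 81]
    refine (Nat.card_eq_of_bijective (fun k : Fin 81 => (⟨σ k k.2, hσ k k.2⟩ : ↥S)) ⟨?_, ?_⟩).symm
    · intro a b h
      have h' : σ a a.2 = σ b b.2 := congrArg Subtype.val h
      refine Fin.ext ?_
      have hga := List.getD_eq_getElem imgT [] (show (a : ℕ) < imgT.length by rw [f1]; exact a.2)
      have hgb := List.getD_eq_getElem imgT [] (show (b : ℕ) < imgT.length by rw [f1]; exact b.2)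
      have la := f4 _ (hga ▸ List.getElem_mem _)
      have lb := f4 _ (hgb ▸ List.getElem_mem _)
      refine (List.Nodup.getElem_inj_iff f2).1 (hga ▸ hgb ▸ List.ext_getElem (la.1.trans lb.1.symm) fun j hj hj' => ?_)
      have e1 := hσA a a.2 j (la.1 ▸ hj)
      have e2 := hσA b b.2 j (la.1 ▸ hj)
      rw [h', e2, List.getD_eq_getElem _ _ hj, List.getD_eq_getElem _ _ hj'] at e1
      exact (ev_inj hω h1 (lb.2 _ (List.getElem_mem _)) (la.2 _ (List.getElem_mem _)) e1).symm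
    · rintro ⟨τ, hτ⟩
      obtain ⟨A, hA, hA'⟩ := hSmem τ hτ
      obtain ⟨k, hk, rfl⟩ := List.mem_iff_getElem.1 hA
      have hk' : k < 81 := f1 ▸ hk
      refine ⟨⟨k, hk'⟩, Subtype.ext (hext _ _ fun j hj => Subtype.ext ?_)⟩
      rw [hσA k hk' j hj, hA' j hj, List.getD_eq_getElem _ _ hk]
  have h81 : 81 ∣ Nat.card ψ.range := by
    rw [← hcardS]
    refine Subgroup.card_dvd_of_le ((Subgroup.closure_le _).2 ?_)
    rintro _ ⟨i, rfl⟩
    exact ⟨_, rfl⟩
  have hker : 243 ∣ Nat.card ψ.ker := by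
    rw [← card_frame hω h1, ← Nat.card_congr (Subgroup.subgroupOfEquivOfLe (Subgroup.le_normalizer :
      frame hω h1 ≤ N)).toEquiv]
    refine Subgroup.card_dvd_of_le fun n hn' => ?_
    refine MulEquiv.ext fun x => Subtype.ext ?_
    rw [hψ]
    show n.1 * x.1 * n.1⁻¹ = x.1
    rw [show n.1 * x.1 = x.1 * n.1 from congrArg Subtype.val
      ((frame_comm hω h1).is_comm.comm ⟨n.1, hn'⟩ x), mul_inv_cancel_right]
  have hc := Subgroup.card_eq_card_quotient_mul_card_subgroup ψ.ker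
  rw [Nat.card_congr (QuotientGroup.quotientKerEquivRange ψ).toEquiv] at hc
  rw [hc, show (3 : ℕ) ^ 9 = 81 * 243 by norm_num]
  exact Nat.mul_dvd_mul h81 hker

end CfsgLib.Chev.TwE6Loc
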