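import Cfsg.Agent.Lib.Chev.TwE6Loc.Fixed

/-!
The twisted group of type E6 over the field with four elements is generated by twelve elements, and a
matrix on the 27 coordinates sending their lifts to lifts of words induces an endomorphism.
-/

set_option autoImplicit false
set_option maxRecDepth 100000
set_option linter.unusedSimpArgs false
set_option linter.unusedSectionVars false

namespace CfsgLib.Chev.TwE6Loc

open Cfsg.Lie CfsgLib.Chev CfsgLib.Chev.E6C CfsgLib.Chev.F4InE6 CfsgLib.Chev.FiInE6 CfsgLib.Chev.TwE6Five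
  CfsgLib.InvChar.Coset Matrix

/-- The words for the root elements generating the twisted group. -/
def genWords : List (List (ℕ × ℕ) × List ℕ) :=
  [([(46, 0)], []), ([(25, 0)], []), ([(39, 0)], []), ([(32, 0)], []),
   ([(46, 1)], [0]), ([(25, 1)], [1]), ([(39, 1)], [2]), ([(32, 1)], [3]),
   ([(56, 0), (36, 0)], []), ([(56, 1), (36, 1)], [4]), ([(56, 2), (36, 3)], [5]), ([(56, 3), (36, 2)], [4, 5]),
   ([(15, 0), (35, 0)], []), ([(15, 1), (35, 1)], [6]), ([(15, 2), (35, 3)], [7]), ([(15, 3), (35, 2)], [6, 7]),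
   ([(42, 0), (37, 0)], []), ([(42, 1), (37, 1)], [8]), ([(42, 2), (37, 3)], [9]), ([(42, 3), (37, 2)], [8, 9]),
   ([(29, 0), (34, 0)], []), ([(29, 1), (34, 1)], [10]), ([(29, 2), (34, 3)], [11]), ([(29, 3), (34, 2)], [10, 11])]

/-- The table is correct. -/
noncomputable def genWordOK : Bool :=
  allR (fun e => allR (fun p => Nat.blt p.1 72) e.1 && wordOK e.2 && eqM (prodK gTbl e.2 (scM 1)) (prodE e.1))
    genWords

theorem genWord_ok : genWordOK = true := by decide +kernel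

variable {K : Type*} [Field K] [CharP K 2] {ω : Kˣ} (hω : ω ^ 3 = 1) (h1 : ω ≠ 1) [Fintype K]
  (hK : Fintype.card K = 4)

include hω h1 in
omit [Fintype K] in
theorem pair_eq {a b : GL chevE6.Idx K} {A B : GL I27 K} (ha : (A, a) ∈ Gam K) (hb : (B, b) ∈ Gam K)
    (h : (A : Matrix I27 I27 K) = B) : a = b := by
  obtain rfl : A = B := Units.ext h
  have h' := mul_mem ha (inv_mem hb)
  rw [Prod.inv_mk, Prod.mk_mul_mk, mul_inv_cancel] at h'
  exact mul_inv_eq_one.1 (gam_trivial h')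

include hω h1 hK in
/-- Every element is a word. -/
theorem exists_word (n : ↥(twistedE6 K 2)) : ∃ L, n = tW hω h1 L := by
  suffices h : ∀ g ∈ twistedE6 K 2, ∃ L, g = xW ω L by
    obtain ⟨L, hL⟩ := h n n.2
    exact ⟨L, Subtype.ext hL⟩
  have base : ∀ e ∈ genWords, (e.1.map fun p => goodE6.xG p.1 (cv ω p.2)).prod = xW ω e.2 := by
    intro e he
    have h := allR_true genWord_ok he
    simp only [Bool.and_eq_true] at h
    obtain ⟨⟨h72, hwd⟩, heq⟩ := h
    have h72' : ∀ p ∈ e.1, p.1 < 72 := fun p hp => Nat.le_of_ble_eq_true (allR_true h72 hp)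
    refine pair_eq hω h1 (A := (e.1.map fun p => uG p.1 (cv ω p.2)).prod)
      (prod_mem_gam _ _ fun p hp => Subgroup.subset_closure ⟨p.1, h72' p hp, _, rfl⟩) (word_gam ω e.2) ?_
    rw [(word_mat hω h1 hwd heq).2, (mat_prodE hω h1 e.1 h72').2]
  intro g hg
  rw [twistedE6, ChevalleyDatum.genSubgroup] at hg
  induction hg using Subgroup.closure_induction with
  | mem g hg =>
    obtain ⟨w, hw, hgw⟩ := hg
    rcases hw with ⟨t, ht, r, hr, rfl⟩ | ⟨t, rs, hrs, rfl⟩
    · have ht' : ∃ c ∈ [0, 1], cv ω c = t := by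
        have : t * (t - 1) = 0 := by linear_combination ht
        rcases mul_eq_zero.1 this with h0 | h0
        · exact ⟨0, by simp, by rw [cv_zero, h0]⟩
        · exact ⟨1, by simp, by rw [cv_one, sub_eq_zero.1 h0]⟩
      obtain ⟨c, hc, rfl⟩ := ht'
      have hr' : r ∈ [46, 25, 39, 32] := hr
      obtain ⟨L, hL⟩ := (by decide +kernel : ∀ c ∈ [0, 1], ∀ r ∈ [46, 25, 39, 32],
        ∃ L ∈ genWords.map Prod.snd, ([(r, c)], L) ∈ genWords) c hc r hr'
      refine ⟨L, ?_⟩
      rw [← base _ hL.2, show g = ([(r, c)].map fun p => goodE6.xG p.1 (cv ω p.2)).prod from Units.ext (by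
        rw [hgw]; simp [ChevalleyDatum.wordMat, goodE6.coe_xG])]
    · obtain ⟨c, hc, rfl⟩ := cv_surj hω h1 hK t
      have hrs' : rs ∈ [(56, 36), (15, 35), (42, 37), (29, 34)] := hrs
      have hc' : c ∈ [0, 1, 2, 3] := by interval_cases c <;> simp
      obtain ⟨L, hL⟩ := (by decide +kernel : ∀ c ∈ [0, 1, 2, 3], ∀ rs ∈ [(56, 36), (15, 35), (42, 37), (29, 34)],
        ∃ L ∈ genWords.map Prod.snd, ([(rs.1, c), (rs.2, sqc c)], L) ∈ genWords) c hc' rs hrs'
      refine ⟨L, ?_⟩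
      rw [← base _ hL.2, show g = ([(rs.1, c), (rs.2, sqc c)].map fun p => goodE6.xG p.1 (cv ω p.2)).prod from
        Units.ext (by rw [hgw]; simp [ChevalleyDatum.wordMat, goodE6.coe_xG, cv_sqc hω h1 hc])]
  | one => exact ⟨[], rfl⟩
  | mul a b _ _ ha hb =>
    obtain ⟨L, rfl⟩ := ha
    obtain ⟨M, rfl⟩ := hb
    exact ⟨L ++ M, (congrArg Subtype.val (tW_append' hω h1 L M)).symm⟩
  | inv a _ ha =>
    obtain ⟨L, rfl⟩ := ha
    refine ⟨L.reverse, inv_eq_of_mul_eq_one_right ?_⟩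
    exact congrArg Subtype.val (word_reverse hω h1 L)

/-- `b` corresponds to `a` under conjugation by `v` on lifts. -/
def Rel (v : GL I27 K) (a b : ↥(twistedE6 K 2)) : Prop :=
  ∃ y : GL I27 K, (y, (a : GL chevE6.Idx K)) ∈ Gam K ∧ (v * y * v⁻¹, (b : GL chevE6.Idx K)) ∈ Gam K

omit [CharP K 2] [Fintype K] in
/-- The image does not depend on the lift. -/
theorem Rel.of_lift {v : GL I27 K} {a b : ↥(twistedE6 K 2)} (h : Rel v a b) {z : GL I27 K}
    (hz : (z, (a : GL chevE6.Idx K)) ∈ Gam K) : (v * z * v⁻¹, (b : GL chevE6.Idx K)) ∈ Gam K := by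
  obtain ⟨y, hy, hy'⟩ := h
  have hs := scal_eq hz hy
  have h1' := mul_mem hz (inv_mem hy)
  rw [Prod.inv_mk, Prod.mk_mul_mk, mul_inv_cancel] at h1'
  have h2' := mul_mem h1' hy'
  rw [Prod.mk_mul_mk, one_mul] at h2'
  rwa [show z * y⁻¹ * (v * y * v⁻¹) = v * z * v⁻¹ by
    calc z * y⁻¹ * (v * y * v⁻¹) = z * y⁻¹ * v * (y * v⁻¹) := by simp only [mul_assoc]
      _ = v * (z * y⁻¹) * (y * v⁻¹) := by rw [hs.comm v]
      _ = v * z * v⁻¹ := by group] at h2'

omit [CharP K 2] [Fintype K] in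
theorem Rel.unique {v : GL I27 K} {a b b' : ↥(twistedE6 K 2)} (h : Rel v a b) (h' : Rel v a b') : b = b' := by
  obtain ⟨y, hy, hy'⟩ := h
  have h2 := h'.of_lift hy
  have h3 := mul_mem hy' (inv_mem h2)
  rw [Prod.inv_mk, Prod.mk_mul_mk, mul_inv_cancel] at h3
  exact Subtype.ext (mul_inv_eq_one.1 (gam_trivial h3))

omit [CharP K 2] [Fintype K] in
theorem Rel.mul {v : GL I27 K} {a a' b b' : ↥(twistedE6 K 2)} (h : Rel v a b) (h' : Rel v a' b') :
    Rel v (a * a') (b * b') := by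
  obtain ⟨y, hy, hy'⟩ := h
  obtain ⟨z, hz, hz'⟩ := h'
  refine ⟨y * z, mul_mem hy hz, ?_⟩
  rw [show v * (y * z) * v⁻¹ = v * y * v⁻¹ * (v * z * v⁻¹) by group]
  exact mul_mem hy' hz'

omit [CharP K 2] [Fintype K] in
theorem Rel.comp {v w : GL I27 K} {a b c : ↥(twistedE6 K 2)} (h : Rel v a b) (h' : Rel w b c) :
    Rel (w * v) a c := by
  obtain ⟨y, hy, hy'⟩ := h
  refine ⟨y, hy, ?_⟩
  rw [show w * v * y * (w * v)⁻¹ = w * (v * y * v⁻¹) * w⁻¹ by group]
  exact h'.of_lift hy'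

/-- Conjugation by `v` is defined on the whole group. -/
def Total (v : GL I27 K) : Prop := ∀ a : ↥(twistedE6 K 2), ∃ b, Rel v a b

omit [CharP K 2] [Fintype K] in
theorem Total.pow {v : GL I27 K} (h : Total v) : ∀ k, Total (v ^ k)
  | 0 => fun a => by
    obtain ⟨y, hy⟩ := gam_exists (twisted_le_group a.2)
    exact ⟨a, y, hy, by rwa [pow_zero, one_mul, inv_one, mul_one]⟩
  | k + 1 => fun a => by
    obtain ⟨b, hb⟩ := Total.pow h k a
    obtain ⟨c, hc⟩ := h b
    exact ⟨c, by rw [pow_succ']; exact hb.comp hc⟩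

omit [CharP K 2] [Fintype K] in
/-- The endomorphism. -/
noncomputable def Total.hom {v : GL I27 K} (h : Total v) : ↥(twistedE6 K 2) →* ↥(twistedE6 K 2) :=
  MonoidHom.mk' (fun a => (h a).choose) fun a a' =>
    (h (a * a')).choose_spec.unique ((h a).choose_spec.mul (h a').choose_spec)

omit [CharP K 2] [Fintype K] in
theorem Total.hom_eq {v : GL I27 K} (h : Total v) {a b : ↥(twistedE6 K 2)} (hr : Rel v a b) : h.hom a = b :=
  (h a).choose_spec.unique hr

include hω h1 hK in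
/-- A table of words makes conjugation total. -/
theorem total_of_table {v : GL I27 K} (h : ∀ g < 12, ∃ L, v * uGen ω 0 g * v⁻¹ = uW ω L) : Total v := by
  intro a
  obtain ⟨L, rfl⟩ := exists_word hω h1 hK a
  have key : ∀ L : List ℕ, ∃ b : ↥(twistedE6 K 2), Rel v (tW hω h1 L) b := by
    intro L
    induction L with
    | nil => exact ⟨1, 1, one_mem _, by rw [mul_one, mul_inv_cancel]; exact one_mem _⟩
    | cons g L ih =>
      obtain ⟨b, hb⟩ := ih
      rcases Nat.lt_or_ge g 12 with hg | hg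
      · obtain ⟨M, hM⟩ := h g hg
        refine ⟨tW hω h1 M * b, ?_⟩
        rw [show tW hω h1 (g :: L) = tW hω h1 [g] * tW hω h1 L from tW_append' hω h1 [g] L]
        refine Rel.mul ⟨uGen ω 0 g, ?_, ?_⟩ hb
        · simpa [tW, xW] using gen_mem_gam ω 0 g
        · rw [hM]; exact word_gam ω M
      · refine ⟨b, ?_⟩
        rw [show tW hω h1 (g :: L) = tW hω h1 L from Subtype.ext (by
          show xW ω (g :: L) = xW ω L
          rw [xW, List.map_cons, List.prod_cons, xGen, List.getD_eq_default _ _ (show genT.length ≤ g from hg)]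
          simp [xW])]
        exact hb
  exact key L

end CfsgLib.Chev.TwE6Loc
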