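import Cfsg.Agent.Lib.Chev.TwE6Loc.Frame
import Cfsg.Agent.Lib.Chev.TwE6Loc.ChecksOuter

/-!
An outer automorphism of order three centralising an element of order nineteen and mapping the elementary
abelian subgroup of order 243 to a conjugate.
-/

set_option autoImplicit false
set_option maxRecDepth 100000
set_option linter.unusedSimpArgs false
set_option linter.unusedSectionVars false

namespace CfsgLib.Chev.TwE6Loc

open Cfsg.Lie CfsgLib.Chev CfsgLib.Chev.E6C CfsgLib.Chev.F4InE6 CfsgLib.Chev.FiInE6 CfsgLib.Chev.TwE6Five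
  CfsgLib.InvChar.Coset Matrix

variable {K : Type*} [Field K] [CharP K 2] {ω : Kˣ} (hω : ω ^ 3 = 1) (h1 : ω ≠ 1)

include hω h1 in
theorem cU_inv : mat (ω : K) cU * mat (ω : K) cUi = 1 ∧ cU.length = 27 ∧ cUi.length = 27 := by
  have h := table_ok
  simp only [tableOK, Bool.and_eq_true] at h
  obtain ⟨l1, -, he⟩ := eqM_spec (ω : K) h.1.1.1
  rw [length_mulM] at l1
  have l2 := Nat.eq_of_beq_eq_true h.1.1.2
  rw [mat_mul (omega_sq hω h1) l1 l2, mat_one (omega_sq hω h1)] at he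
  exact ⟨he, l1, l2⟩

/-- The outer element. -/
noncomputable def cUnit : GL I27 K :=
  ⟨mat (ω : K) cU, mat (ω : K) cUi, (cU_inv hω h1).1, mul_eq_one_comm.1 (cU_inv hω h1).1⟩

/-- The element of order nineteen. -/
noncomputable def x19 : ↥(twistedE6 K 2) := tW hω h1 xWd

include hω h1

theorem pow_of_check' {X : PM} {u : GL I27 K} (hl : X.length = 27)
    (hu : (u : Matrix I27 I27 K) = mat (ω : K) X) {n : ℕ}
    (h : eqM (prodK (fun _ => X) (upto n) (scM 1)) (scM 1) = true) : u ^ n = 1 := by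
  obtain ⟨-, he⟩ := prodK_one hω h1 (f := fun _ => u) (fun x _ => ⟨hl, hu⟩) h
  refine Units.ext ?_
  rw [Units.val_one, ← mat_one (omega_sq hω h1), ← he, List.map_const', List.prod_replicate, E6C.upto_eq,
    List.length_range]

theorem cUnit_pow : ∀ n, ((cUnit hω h1 ^ n : GL I27 K) : Matrix I27 I27 K) =
    mat (ω : K) (prodK (fun _ => cU) (upto n) (scM 1)) := by
  intro n
  have hw := omega_sq hω h1
  obtain ⟨-, hm⟩ := prodK_spec hω h1 (tbl := fun _ => cU) (upto n) (scM 1) (fun _ _ => (cU_inv hω h1).2.1)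
    (scM_length 1)
  rw [hm, mat_one hw, one_mul, List.map_const', List.prod_replicate, E6C.upto_eq, List.length_range,
    Units.val_pow_eq_pow_val]
  rfl

theorem aU_eq : ((cUnit hω h1 ^ 19 : GL I27 K) : Matrix I27 I27 K) = mat (ω : K) aU ∧ aU.length = 27 := by
  have h := pow_ok
  simp only [powOK, Bool.and_eq_true] at h
  obtain ⟨-, l, he⟩ := eqM_spec (ω : K) h.1
  exact ⟨(cUnit_pow hω h1 19).trans he, l⟩

theorem cube_scal : IsScal ((cUnit hω h1 ^ 19) ^ 3) := by
  have h := pow_ok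
  simp only [powOK, Bool.and_eq_true] at h
  obtain ⟨hm, hl⟩ := aU_eq hω h1
  have hw := omega_sq hω h1
  set M := prodK (fun _ => aU) (upto 3) (scM 1) with hM
  have hp : (((cUnit hω h1 ^ 19) ^ 3 : GL I27 K) : Matrix I27 I27 K) = mat (ω : K) M := by
    obtain ⟨-, hs⟩ := prodK_spec hω h1 (tbl := fun _ => aU) (upto 3) (scM 1) (fun _ _ => hl) (scM_length 1)
    rw [hM, hs, mat_one hw, one_mul, List.map_const', List.prod_replicate, E6C.upto_eq, List.length_range,
      Units.val_pow_eq_pow_val, hm]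
  refine ⟨cv ω (cd (row M 0) 0), ?_⟩
  rw [hp]
  refine Matrix.ext fun a b => ?_
  have h' := allR_upto (allR_upto h.2 (num27.lt a)) (num27.lt b)
  conv_lhs => rw [← pt_e a, ← pt_e b]
  rw [mat_cv hω h1 _ (num27.lt a) (num27.lt b), Matrix.smul_apply, Matrix.one_apply, smul_eq_mul]
  by_cases e : a = b
  · subst e
    rw [show Nat.beq (num27.e a) (num27.e a) = true by simp [natBeq], cond_true] at h'
    rw [Nat.eq_of_beq_eq_true h', if_pos rfl, mul_one]
  · have e' : num27.e a ≠ num27.e b := fun h => e (num27.inj h)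
    rw [show Nat.beq (num27.e a) (num27.e b) = false by simp [natBeq, e'], cond_false] at h'
    rw [Nat.eq_of_beq_eq_true h', cv_zero, if_neg e, mul_zero]

theorem x19_facts : x19 hω h1 ≠ 1 ∧ x19 hω h1 ^ 19 = 1 ∧
    (uW ω xWd : Matrix I27 I27 K) = mat (ω : K) xM ∧ xM.length = 27 := by
  have h := x19_ok
  simp only [xOK19, Bool.and_eq_true, Bool.not_eq_true'] at h
  obtain ⟨l, m⟩ := word_mat hω h1 h.1.1.1.1 h.1.1.1.2
  refine ⟨?_, ?_, m, l⟩
  · intro hx
    have hx' : xW ω xWd = 1 := congrArg Subtype.val hx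
    obtain ⟨c, hc⟩ := gam_scalar (show (uW ω xWd, (1 : GL chevE6.Idx K)) ∈ Gam K by
      rw [← hx']; exact word_gam ω xWd)
    refine Bool.false_ne_true (h.1.2.symm.trans ?_)
    rw [allR_eq, List.all_eq_true]
    intro j hj
    rw [E6C.upto_eq] at hj
    have hj' := List.mem_range.1 hj
    have key : ∀ b, b < 27 → cv ω (cd (row xM 0) b) = if 0 = b then c else 0 := by
      intro b hb
      rw [← mat_cv hω h1 _ (by norm_num : 0 < 27) hb, ← m, hc, Matrix.smul_apply, Matrix.one_apply, smul_eq_mul]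
      by_cases e : 0 = b
      · subst e; simp
      · rw [if_neg e, if_neg fun h => e (by rw [← e_pt (by norm_num : 0 < 27), h, e_pt hb]), mul_zero]
    by_cases e : 0 = j
    · subst e; simp [natBeq]
    · rw [show Nat.beq 0 j = false by simp [natBeq, e], cond_false, natBeq, decide_eq_true_eq]
      exact cv_eq_zero hω h1 (cd_lt _ _) (by rw [key j hj', if_neg e])
  · refine Subtype.ext (gam_trivial ?_)
    have h2 := pow_mem (word_gam ω xWd) 19
    rwa [Prod.pow_mk, pow_of_check' hω h1 l m h.1.1.2] at h2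

omit hω h1 in
theorem eqM_self {M : PM} (hM : M.length = 27) : eqM M M = true := by
  simp only [eqM, hM, allR_eq, natBeq, decide_true, Bool.true_and, Bool.and_self, List.all_eq_true,
    implies_true]

variable [Fintype K] (hK : Fintype.card K = 4)
include hK

theorem total_cUnit : Total (cUnit hω h1) := by
  refine total_of_table hω h1 hK fun g hg => ⟨conjT.getD g [], ?_⟩
  have h := table_ok
  simp only [tableOK, Bool.and_eq_true] at h
  have h' := allR_upto h.2 hg
  simp only [Bool.and_eq_true] at h'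
  obtain ⟨l1, l2⟩ := (cU_inv hω h1).2
  obtain ⟨lg, mg⟩ := gen_matrix hω h1 hg
  have hw := omega_sq hω h1
  obtain ⟨-, hlen, he⟩ := eqM_spec (ω : K) h'.2
  have hword := (word_mat hω h1 h'.1 (M := prodK gTbl (conjT.getD g []) (scM 1)) (eqM_self hlen)).2
  refine Units.ext ?_
  rw [hword, ← he, mat_mul hw ((length_mulM _ _).trans l1) l2, mat_mul hw l1 lg, ← mg]
  rfl

/-- The automorphism. -/
noncomputable def alpha0 : ↥(twistedE6 K 2) →* ↥(twistedE6 K 2) :=
  ((total_cUnit hω h1 hK).pow 19).hom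

theorem alpha0_rel (a : ↥(twistedE6 K 2)) : Rel (cUnit hω h1 ^ 19) a (alpha0 hω h1 hK a) := by
  obtain ⟨b, hb⟩ := (total_cUnit hω h1 hK).pow 19 a
  rwa [alpha0, Total.hom_eq _ hb]

theorem alpha0_cube (a : ↥(twistedE6 K 2)) : alpha0 hω h1 hK (alpha0 hω h1 hK (alpha0 hω h1 hK a)) = a := by
  have h3 := ((alpha0_rel hω h1 hK a).comp (alpha0_rel hω h1 hK _)).comp
    (alpha0_rel hω h1 hK (alpha0 hω h1 hK (alpha0 hω h1 hK a)))
  refine (h3.unique ?_)
  obtain ⟨y, hy⟩ := gam_exists (twisted_le_group a.2)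
  refine ⟨y, hy, ?_⟩
  rw [show cUnit hω h1 ^ 19 * (cUnit hω h1 ^ 19 * cUnit hω h1 ^ 19) = (cUnit hω h1 ^ 19) ^ 3 by
    rw [pow_succ (cUnit hω h1 ^ 19) 2, pow_two, mul_assoc]]
  rwa [(cube_scal hω h1).comm y, mul_inv_cancel_right]

/-- The automorphism of order three. -/
noncomputable def alpha : MulAut ↥(twistedE6 K 2) :=
  { alpha0 hω h1 hK with
    invFun := fun a => alpha0 hω h1 hK (alpha0 hω h1 hK a)
    left_inv := fun a => alpha0_cube hω h1 hK a
    right_inv := fun a => alpha0_cube hω h1 hK a }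

theorem alpha_cube (a : ↥(twistedE6 K 2)) :
    alpha hω h1 hK (alpha hω h1 hK (alpha hω h1 hK a)) = a := alpha0_cube hω h1 hK a

theorem alpha_x : alpha hω h1 hK (x19 hω h1) = x19 hω h1 := by
  refine Total.hom_eq _ ⟨uW ω xWd, word_gam ω xWd, ?_⟩
  obtain ⟨-, -, m, l⟩ := x19_facts hω h1
  obtain ⟨ma, la⟩ := aU_eq hω h1
  have h := x19_ok
  simp only [xOK19, Bool.and_eq_true] at h
  have hc : cUnit hω h1 ^ 19 * uW ω xWd = uW ω xWd * cUnit hω h1 ^ 19 := by
    refine Units.ext ?_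
    rw [Units.val_mul, Units.val_mul, ma, m, ← mat_mul (omega_sq hω h1) la l, ← mat_mul (omega_sq hω h1) l la]
    exact (eqM_spec (ω : K) h.2).2.2
  rw [hc, mul_inv_cancel_right]
  exact word_gam ω xWd

theorem exists_moved : ∃ a, alpha hω h1 hK a ≠ a := by
  have h := move_ok
  simp only [moveOK, Bool.and_eq_true, Bool.not_eq_true'] at h
  obtain ⟨⟨⟨hg, hi⟩, hj⟩, hne⟩ := h
  have hg' := Nat.le_of_ble_eq_true hg
  refine ⟨tW hω h1 [moveAt.1], fun hfix => ?_⟩
  obtain ⟨y, hy, hy'⟩ := alpha0_rel hω h1 hK (tW hω h1 [moveAt.1])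
  have hfix' : alpha0 hω h1 hK (tW hω h1 [moveAt.1]) = tW hω h1 [moveAt.1] := hfix
  rw [hfix'] at hy'
  have hU : (uW ω [moveAt.1], xW ω [moveAt.1]) ∈ Gam K := word_gam ω _
  have h2 := (show Rel (cUnit hω h1 ^ 19) (tW hω h1 [moveAt.1]) (tW hω h1 [moveAt.1]) from ⟨y, hy, hy'⟩).of_lift hU
  obtain ⟨c, hc⟩ := scal_eq h2 hU
  obtain ⟨ma, la⟩ := aU_eq hω h1
  obtain ⟨lg, mg⟩ := gen_matrix hω h1 hg'
  have hug : uW ω [moveAt.1] = uGen ω 0 moveAt.1 := by simp [uW]
  rw [hug] at hc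
  have heq : mat (ω : K) (mulM aU (gTbl moveAt.1)) = c • mat (ω : K) (mulM (gTbl moveAt.1) aU) := by
    rw [mat_mul (omega_sq hω h1) la lg, mat_mul (omega_sq hω h1) lg la, ← ma, ← mg, ← Units.val_mul,
      ← Units.val_mul, show cUnit hω h1 ^ 19 * uGen ω 0 moveAt.1 = cUnit hω h1 ^ 19 * uGen ω 0 moveAt.1 *
        (cUnit hω h1 ^ 19)⁻¹ * (uGen ω 0 moveAt.1)⁻¹ * (uGen ω 0 moveAt.1 * cUnit hω h1 ^ 19) by group,
      Units.val_mul, hc, smul_mul_assoc, one_mul]
  have e := congrFun (congrFun heq (pt moveAt.2.1)) (pt moveAt.2.2)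
  have hi' := Nat.le_of_ble_eq_true hi
  have hj' := Nat.le_of_ble_eq_true hj
  rw [mat_cv hω h1 _ hi' hj', Matrix.smul_apply, mat_cv hω h1 _ hi' hj', smul_eq_mul] at e
  have hc0 : c ≠ 0 := fun h0 => by
    have h3 := congrFun (congrFun hc (pt 0)) (pt 0)
    have hu := (cUnit hω h1 ^ 19 * uGen ω 0 moveAt.1 * (cUnit hω h1 ^ 19)⁻¹ * (uGen ω 0 moveAt.1)⁻¹).mul_inv
    rw [hc, h0, zero_smul, Matrix.zero_mul] at hu
    exact zero_ne_one hu
  have hiff : cd (row (mulM aU (gTbl moveAt.1)) moveAt.2.1) moveAt.2.2 = 0 ↔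
      cd (row (mulM (gTbl moveAt.1) aU) moveAt.2.1) moveAt.2.2 = 0 := by
    constructor <;> intro h0
    · rw [h0, cv_zero, eq_comm, mul_eq_zero] at e
      exact cv_eq_zero hω h1 (cd_lt _ _) (e.resolve_left hc0)
    · rw [h0, cv_zero, mul_zero] at e
      exact cv_eq_zero hω h1 (cd_lt _ _) e
  simp [natBeq, hiff] at hne

set_option maxHeartbeats 800000 in
theorem alpha_frame : ∃ g : ↥(twistedE6 K 2), (frame hω h1).map (alpha hω h1 hK).toMonoidHom =
    (frame hω h1).map (MulAut.conj g).toMonoidHom := by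
  have h := image_ok
  simp only [imageOK, Bool.and_eq_true] at h
  obtain ⟨⟨hw0, himg⟩, hgg⟩ := h
  have hw := omega_sq hω h1
  set g0 := tW hω h1 g0Wd with hg0
  obtain ⟨lG, lGi⟩ : (prodK gTbl g0Wd (scM 1)).length = 27 ∧ (prodK gTbl g0Wd.reverse (scM 1)).length = 27 := by
    have hlt : ∀ x ∈ g0Wd, x < 12 := fun x hx => Nat.le_of_ble_eq_true (allR_true hw0 hx)
    exact ⟨(prodK_spec hω h1 g0Wd _ (fun x hx => gTbl_length x (hlt x hx)) (scM_length 1)).1,
      (prodK_spec hω h1 g0Wd.reverse _ (fun x hx => gTbl_length x (hlt x (List.mem_reverse.1 hx)))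
        (scM_length 1)).1⟩
  have mG : (uW ω g0Wd : Matrix I27 I27 K) = mat (ω : K) (prodK gTbl g0Wd (scM 1)) :=
    (word_mat hω h1 hw0 (eqM_self lG)).2
  have mGi : (((uW ω g0Wd)⁻¹ : GL I27 K) : Matrix I27 I27 K) =
      mat (ω : K) (prodK gTbl g0Wd.reverse (scM 1)) := by
    refine Units.inv_eq_of_mul_eq_one_right ?_
    rw [mG, ← mat_mul hw lG lGi, ← mat_one hw]
    exact (eqM_spec (ω : K) hgg).2.2
  -- the image under the outer element
  have hone : (frame hω h1).map (total_cUnit hω h1 hK).hom = (frame hω h1).map (MulAut.conj g0).toMonoidHom := by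
    rw [frame, MonoidHom.map_closure, MonoidHom.map_closure, ← Set.range_comp, ← Set.range_comp]
    congr 1
    refine congrArg Set.range (funext fun i => Total.hom_eq _ ⟨uW ω (eWd.getD i []), word_gam ω _, ?_⟩)
    obtain ⟨li, mi⟩ := e_mat hω h1 i.2
    have he := (eqM_spec (ω : K) (allR_upto himg i.2)).2.2
    obtain ⟨l1, l2⟩ := (cU_inv hω h1).2
    rw [mat_mul hw ((length_mulM _ _).trans l1) l2, mat_mul hw l1 li,
      mat_mul hw ((length_mulM _ _).trans lG) lGi, mat_mul hw lG li, ← mi, ← mG, ← mGi] at he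
    rw [show cUnit hω h1 * uW ω (eWd.getD i []) * (cUnit hω h1)⁻¹ =
      uW ω g0Wd * uW ω (eWd.getD i []) * (uW ω g0Wd)⁻¹ from Units.ext he]
    simp only [Function.comp_apply, MulEquiv.coe_toMonoidHom, MulAut.conj_apply, Subgroup.coe_mul,
      Subgroup.coe_inv, hg0, eT', tW]
    exact mul_mem (mul_mem (word_gam ω g0Wd) (word_gam ω (eWd.getD i []))) (inv_mem (word_gam ω g0Wd))
  -- iterate
  have hiter : ∀ k, ∃ g, (frame hω h1).map ((total_cUnit hω h1 hK).pow k).hom =
      (frame hω h1).map (MulAut.conj g).toMonoidHom := by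
    intro k
    induction k with
    | zero =>
      refine ⟨1, ?_⟩
      congr 1
      refine MonoidHom.ext fun a => Total.hom_eq _ ?_
      obtain ⟨y, hy⟩ := gam_exists (twisted_le_group a.2)
      exact ⟨y, hy, by simpa using hy⟩
    | succ k ih =>
      obtain ⟨g, hg⟩ := ih
      refine ⟨(total_cUnit hω h1 hK).hom g * g0, ?_⟩
      have hcomp : ((total_cUnit hω h1 hK).pow (k + 1)).hom =
          (total_cUnit hω h1 hK).hom.comp ((total_cUnit hω h1 hK).pow k).hom := by
        refine MonoidHom.ext fun a => Total.hom_eq _ ?_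
        obtain ⟨b, hb⟩ := (total_cUnit hω h1 hK).pow k a
        obtain ⟨c, hc⟩ := total_cUnit hω h1 hK b
        rw [MonoidHom.comp_apply, Total.hom_eq _ hb, Total.hom_eq _ hc, pow_succ']
        exact hb.comp hc
      have hconj : (total_cUnit hω h1 hK).hom.comp (MulAut.conj g).toMonoidHom =
          (MulAut.conj ((total_cUnit hω h1 hK).hom g)).toMonoidHom.comp (total_cUnit hω h1 hK).hom :=
        MonoidHom.ext fun a => by simp
      rw [hcomp, ← Subgroup.map_map, hg, Subgroup.map_map, hconj, ← Subgroup.map_map, hone, Subgroup.map_map]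
      congr 1
      refine MonoidHom.ext fun a => ?_
      simp [mul_assoc]
  obtain ⟨g, hg⟩ := hiter 19
  exact ⟨g, hg⟩

end CfsgLib.Chev.TwE6Loc
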