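import Mathlib
import Cfsg.Agent.Lib.Chev.E6Torus

/-!
Commutants of elements of order nineteen in the Chevalley group of type E6 over the field with four elements:
their torus has order 4161, and no element of order three survives in the adjoint group.
-/

set_option autoImplicit false
set_option maxHeartbeats 2000000
set_option maxRecDepth 100000
set_option linter.style.haveILetI false

namespace CfsgLib.Chev.TwE6Loc

open Cfsg.Lie CfsgLib.Chev CfsgLib.Chev.Springer Matrix Polynomial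

/-- The ninth cyclotomic polynomial at an integer. -/
theorem eval_cyclotomic_nine (z : ℤ) : (cyclotomic 9 ℤ).eval z = z ^ 6 + z ^ 3 + 1 := by
  rw [show (9 : ℕ) = 3 ^ (1 + 1) from rfl, cyclotomic_prime_pow_eq_geom_sum Nat.prime_three]
  simp [Finset.sum_range_succ, Polynomial.eval_finsetSum]
  ring

/-- An element commuting with one of order nineteen has order dividing 1387. -/
theorem centralizer_nineteen {F : Type*} [Field F] [Fintype F] (hF : Fintype.card F = 4)
    {x y : ↥(chevE6.group F)} (hx : orderOf x = 19) (hxy : x * y = y * x) : y ^ 1387 = 1 := by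
  classical
  have hc : HasComm chevE6 := hasComm_of_mem (by simp)
  obtain ⟨r, hr19⟩ : ∃ r : ℕ, r = 19 := ⟨19, rfl⟩
  rw [← hr19] at hx
  haveI : Fact r.Prime := ⟨by rw [hr19]; norm_num⟩
  obtain ⟨q, hq4⟩ : ∃ q : ℕ, q = 4 := ⟨4, rfl⟩
  rw [← hq4] at hF
  have hrd : ¬ r ∣ 9 := by subst hr19; norm_num
  have hrW : ¬ r ∣ Nat.card goodE6.weyl := by subst hr19; rw [card_weylE6]; norm_num
  have hdtot : Nat.totient 9 = Fintype.card (Fin chevE6.rank) := by rw [Fintype.card_fin]; decide
  haveI hgf : Finite ↥(chevE6.group F) := inferInstance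
  set d := 9 with hd9
  set p := ringChar F
  haveI : Fact p.Prime := ⟨CharP.char_is_prime F p⟩
  haveI : NeZero d := ⟨by omega⟩
  let L := FiniteField.Extension F p d
  haveI : Fintype L := Fintype.ofFinite L
  have hL : Fintype.card L = q ^ d := by
    rw [← Nat.card_eq_fintype_card, FiniteField.natCard_extension, Nat.card_eq_fintype_card, hF]
  have hq2 : 2 ≤ q := by omega
  let ι : F →+* L := algebraMap F L
  let φ : L →+* L := (FiniteField.Extension.frob F p d).toRingEquiv.toRingHom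
  have hφ : ∀ z : L, φ z = z ^ q := fun z => by
    rw [← hF, ← Nat.card_eq_fintype_card]; exact FiniteField.Extension.frob_apply ..
  have hφι : ∀ a : F, φ (ι a) = ι a := fun a => by
    rw [hφ, ← map_pow, ← hF, FiniteField.pow_card]
  have hfix : ∀ z : L, φ z = z → ∃ a, ι a = z := fun z hz => by
    by_contra hne
    push Not at hne
    have hP0 : (Polynomial.X ^ q - Polynomial.X : L[X]) ≠ 0 := FiniteField.X_pow_card_sub_X_ne_zero L (by omega)
    have hsub : insert z (Finset.univ.image ι) ⊆ (Polynomial.X ^ q - Polynomial.X : L[X]).roots.toFinset := by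
      intro w hw
      rw [Multiset.mem_toFinset, Polynomial.mem_roots hP0]
      rcases Finset.mem_insert.1 hw with rfl | hw
      · simp [← hφ, hz]
      · obtain ⟨a, -, rfl⟩ := Finset.mem_image.1 hw
        simp [← hφ, hφι]
    have h1 := (Finset.card_le_card hsub).trans (Multiset.toFinset_card_le _) |>.trans (Polynomial.card_roots' _)
    rw [FiniteField.X_pow_card_sub_X_natDegree_eq L (by omega), Finset.card_insert_of_notMem (by
      simpa using hne), Finset.card_image_of_injective _ ι.injective, Finset.card_univ, hF] at h1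
    omega
  obtain ⟨γ, hγ⟩ := IsCyclic.exists_generator (α := Lˣ)
  set M : ℕ := q ^ d - 1 with hMdef
  have hqd : 1 < q ^ d := Nat.one_lt_pow (by omega) (by omega)
  haveI : NeZero M := ⟨by omega⟩
  have hγo : orderOf γ = M := by
    rw [orderOf_eq_card_of_forall_mem_zpowers hγ, Nat.card_units, Nat.card_eq_fintype_card, hL]
  have hMcast : (M : ℤ) = (q : ℤ) ^ d - 1 := by rw [hMdef, Nat.cast_sub hqd.le]; push_cast; ring
  have hzz : ∀ a b : ℤ, γ ^ a = γ ^ b ↔ (a : ZMod M) = (b : ZMod M) := fun a b => by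
    rw [ZMod.intCast_eq_intCast_iff_dvd_sub, ← hγo, orderOf_dvd_iff_zpow_eq_one, _root_.zpow_sub,
      mul_inv_eq_one]
    exact ⟨fun h => h.symm, fun h => h.symm⟩
  have hMval : M = 262143 := by rw [hMdef, hq4, hd9]; norm_num
  have hrM : r ∣ M := by rw [hMval, hr19]; norm_num
  have hr1 : 1 < r := by omega
  have hQr : ((Fintype.card L : ℕ) : ZMod r) = 1 := by
    rw [hL, show q ^ d = M + 1 by omega, Nat.cast_add, (CharP.cast_eq_zero_iff (ZMod r) r M).2 hrM,
      zero_add, Nat.cast_one]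
  set xh : ↥(chevE6.group L) := ⟨scalarGL chevE6 ι x, goodE6.scalarGL_mem ι x.2⟩ with hxh
  have hxr : xh ^ r = 1 := by
    refine Subtype.ext ?_
    show scalarGL chevE6 ι x ^ r = 1
    rw [← map_pow, ← SubmonoidClass.coe_pow, ← hx, pow_orderOf_eq_one, OneMemClass.coe_one, map_one]
  have hindex : ¬ r ∣ ((chevE6.diagonalSubgroup L).subgroupOf (chevE6.group L)).index := by
    intro hdvd
    set T' := (chevE6.diagonalSubgroup L).subgroupOf (chevE6.group L)
    have h1 := T'.card_mul_index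
    rw [Nat.card_congr (Subgroup.subgroupOfEquivOfLe goodE6.diagonal_le_group).toEquiv,
      goodE6.card_group hc, goodE6.card_borel hc] at h1
    have h2 : T'.index = Fintype.card L ^ (chevE6.nroots / 2) * goodE6.weylSum {i | i < chevE6.rank} (Fintype.card L) :=
      Nat.eq_of_mul_eq_mul_left (Nat.card_pos (α := ↥(chevE6.diagonalSubgroup L))) (h1.trans (by ring))
    rw [h2, ← CharP.cast_eq_zero_iff (ZMod r) r, Nat.cast_mul, Nat.cast_pow, hQr, one_pow, one_mul,
      Good.weylSum, ← goodE6.weyl_eq_wJ, Nat.cast_sum] at hdvd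
    simp only [Nat.cast_pow, hQr, one_pow, Finset.sum_const, nsmul_eq_mul, mul_one] at hdvd
    rw [CharP.cast_eq_zero_iff (ZMod r) r] at hdvd
    refine hrW ?_
    rwa [Nat.card_eq_fintype_card, Fintype.card_subtype]
  obtain ⟨⟨gc, hgc⟩, hmem⟩ := exists_conj_mem _ hxr hindex
  have htd : gc⁻¹ * scalarGL chevE6 ι x * gc ∈ chevE6.diagonalSubgroup L := Subgroup.mem_subgroupOf.1 hmem
  let Θ : ↥(chevE6.group F) →* GL chevE6.Idx L :=
    (MulAut.conj gc⁻¹).toMonoidHom.comp ((scalarGL chevE6 ι).comp (chevE6.group F).subtype)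
  have hΘv : ∀ y : ↥(chevE6.group F), Θ y = gc⁻¹ * scalarGL chevE6 ι y * gc := fun y => by
    show gc⁻¹ * scalarGL chevE6 ι y * gc⁻¹⁻¹ = _
    rw [inv_inv]
  have hΘinj : Function.Injective Θ := fun a b h =>
    Subtype.ext (scalarGL_injective ι ((MulEquiv.injective (MulAut.conj gc⁻¹)) h))
  have hdiag := htd
  rw [goodE6.diagonal_eq_range] at hdiag
  obtain ⟨c, hct⟩ := hdiag
  -- the exponents of every torus element
  have hexp : ∀ e : Fin chevE6.rank → Lˣ, ∃ k : Fin chevE6.rank → ℤ,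
      ∀ u : Fin chevE6.nroots, rootVal e u = γ ^ (∑ i, goodE6.coVec u i * k i) := by
    intro e
    choose k hk using fun j : Fin chevE6.rank => Subgroup.mem_zpowers_iff.1 (hγ (rootVal e (chevE6.simple j)))
    refine ⟨k, fun u => ?_⟩
    rw [goodE6.rootVal_eq_prod e u.2, zpow_finsum]
    refine Finset.prod_congr rfl fun j _ => ?_
    rw [← hk j, ← _root_.zpow_mul, mul_comm]
    rfl
  obtain ⟨k, hk⟩ := hexp c
  have hsum : ∀ (j : Fin chevE6.rank) (k : Fin chevE6.rank → ℤ), ∑ i, goodE6.coVec (goodE6.sroot j) i * k i = k j := by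
    intro j k
    simp [goodE6.coVec_sroot]
  have hcr : ∀ u : Fin chevE6.nroots, rootVal c u ^ r = 1 := by
    intro u
    have h1 : torHom chevE6 L (c ^ r) = torHom chevE6 L 1 := by
      rw [map_one, map_pow, hct, show gc⁻¹ * scalarGL chevE6 ι x * gc = Θ x from (hΘv x).symm, ← map_pow, ← hx,
        pow_orderOf_eq_one, map_one]
    rw [← rootVal_pow, goodE6.rootVal_eq_of_torHom h1 u.2, rootVal_one]
  obtain ⟨m, hm⟩ := hrM
  have hm0 : 0 < m := Nat.pos_of_ne_zero fun h => by rw [h, mul_zero] at hm; omega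
  have hka : ∀ j, ∃ a : ℤ, (m : ℤ) * a = k j := by
    intro j
    have h1 := hcr (goodE6.sroot j)
    rw [hk, hsum, ← zpow_natCast, ← _root_.zpow_mul, ← _root_.zpow_zero γ, hzz, Int.cast_zero,
      ZMod.intCast_zmod_eq_zero_iff_dvd] at h1
    obtain ⟨b, hb⟩ := h1
    rw [hm, Nat.cast_mul] at hb
    exact ⟨b, mul_right_cancel₀ (b := (r : ℤ)) (by exact_mod_cast (Fact.out : r.Prime).ne_zero) (by rw [hb]; ring)⟩
  choose a ha using hka
  set v : Fin chevE6.rank → ZMod r := fun j => (a j : ZMod r) with hv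
  have hval : ∀ u : Fin chevE6.nroots, rootVal c u = γ ^ ((m : ℤ) * ∑ i, goodE6.coVec u i * a i) := by
    intro u
    rw [hk, Finset.mul_sum]
    congr 1
    exact Finset.sum_congr rfl fun i _ => by rw [← ha i]; ring
  have hmr : ∀ z z' : ℤ, γ ^ ((m : ℤ) * z) = γ ^ ((m : ℤ) * z') ↔ (z : ZMod r) = (z' : ZMod r) := by
    intro z z'
    rw [hzz, ZMod.intCast_eq_intCast_iff_dvd_sub, ZMod.intCast_eq_intCast_iff_dvd_sub, ← mul_sub, hm,
      Nat.cast_mul, mul_comm (r : ℤ), mul_dvd_mul_iff_left (by exact_mod_cast hm0.ne')]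
  have hvec : ∀ (ρ : Equiv.Perm (Fin chevE6.nroots)) (j : Fin chevE6.rank),
      ((goodE6.coMat ρ).map (Int.cast : ℤ → ZMod r) *ᵥ v) j =
        ((∑ i, goodE6.coVec (ρ (goodE6.sroot j)) i * a i : ℤ) : ZMod r) := by
    intro ρ j
    show ∑ t, ((goodE6.coMat ρ j t : ℤ) : ZMod r) * v t = _
    rw [Int.cast_sum]
    exact Finset.sum_congr rfl fun i _ => by rw [Int.cast_mul]; rfl
  have hv0 : v ≠ 0 := by
    intro h0
    have h1 : torHom chevE6 L c = 1 := by
      rw [← map_one (torHom chevE6 L)]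
      refine goodE6.torHom_eq_of_simple fun j => ?_
      rw [show chevE6.simple j = ((goodE6.sroot j : Fin chevE6.nroots) : ℕ) from rfl, hval, hsum, rootVal_one,
        ← _root_.zpow_zero γ, ← mul_zero (m : ℤ), hmr, Int.cast_zero]
      exact congrFun h0 j
    rw [h1, eq_comm, show gc⁻¹ * scalarGL chevE6 ι x * gc = Θ x from (hΘv x).symm, ← map_one Θ] at hct
    rw [hΘinj hct, orderOf_one] at hx
    omega
  -- the Frobenius twist
  have hφm : ∀ {z : GL chevE6.Idx L}, z ∈ chevE6.group L → scalarGL chevE6 φ z ∈ chevE6.group L := fun hz => goodE6.scalarGL_mem φ hz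
  have hφx : ∀ y : GL chevE6.Idx F, scalarGL chevE6 φ (scalarGL chevE6 ι y) = scalarGL chevE6 ι y := fun y =>
    Units.ext (Matrix.ext fun i j => hφι _)
  set af := gc⁻¹ * scalarGL chevE6 φ gc with haf
  have hafm : af ∈ chevE6.group L := mul_mem (inv_mem hgc) (hφm hgc)
  have hφt : scalarGL chevE6 φ (torHom chevE6 L c) = af⁻¹ * torHom chevE6 L c * af := by
    rw [hct, map_mul, map_mul, map_inv, hφx, haf]
    group
  obtain ⟨n, hn, hnt⟩ := goodE6.diagonal_fusion hc (goodE6.torHom_mem c)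
    (show scalarGL chevE6 φ (torHom chevE6 L c) ∈ chevE6.diagonalSubgroup L by rw [scalarGL_torHom]; exact goodE6.torHom_mem _)
    (inv_mem hafm) (by rw [hφt, inv_inv])
  obtain ⟨π, hπw, hπ⟩ := goodE6.exists_acts hn
  set R := goodE6.coMat π⁻¹ with hR
  have hφval : ∀ (e : Fin chevE6.rank → Lˣ) (u : ℕ),
      rootVal (fun i => Units.map (φ : L →* L) (e i)) u = rootVal e u ^ q := by
    intro e u
    simp only [rootVal, ← Finset.prod_pow]
    refine Finset.prod_congr rfl fun i _ => ?_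
    rw [show Units.map (φ : L →* L) (e i) = e i ^ q from Units.ext (by simp [hφ]), ← zpow_natCast (e i) q,
      ← zpow_natCast _ q, ← _root_.zpow_mul, ← _root_.zpow_mul, mul_comm]
  have hRv : R.map (Int.cast : ℤ → ZMod r) *ᵥ v = ((q : ℤ) : ZMod r) • v := by
    funext j
    rw [Pi.smul_apply, smul_eq_mul, hR, hvec, show ((q : ℤ) : ZMod r) * v j = (((q : ℤ) * a j : ℤ) : ZMod r) by
      rw [Int.cast_mul], ← hmr]
    have h := goodE6.rootVal_conj hπ (c := c) (hnt.trans (scalarGL_torHom φ c)) (π⁻¹ (goodE6.sroot j))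
    rw [show π (π⁻¹ (goodE6.sroot j)) = goodE6.sroot j from π.apply_symm_apply _, hφval, hval, hsum, hval,
      ← zpow_natCast, ← _root_.zpow_mul] at h
    rw [← h]
    congr 1
    ring
  have hπ' := inv_mem hπw
  have hmm : ∀ A A' : Matrix (Fin chevE6.rank) (Fin chevE6.rank) ℤ,
      (A * A').map (Int.cast : ℤ → ZMod r) = A.map (Int.cast : ℤ → ZMod r) * A'.map (Int.cast : ℤ → ZMod r) :=
    fun A A' => Matrix.map_mul (f := Int.castRingHom (ZMod r))
  have hq0 : ((q : ℤ) : ZMod r) ≠ 0 := by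
    rw [Int.cast_natCast, ne_eq, CharP.cast_eq_zero_iff (ZMod r) r, hr19, hq4]; norm_num
  have hπv : (goodE6.coMat π).map (Int.cast : ℤ → ZMod r) *ᵥ v = (((5 : ℤ) : ZMod r)) • v := by
    refine smul_right_injective (Fin chevE6.rank → ZMod r) hq0 ?_
    show ((q : ℤ) : ZMod r) • _ = ((q : ℤ) : ZMod r) • _
    rw [← Matrix.mulVec_smul, ← hRv, Matrix.mulVec_mulVec, ← hmm, hR, (goodE6.coMat_inv_mul hπw).2,
      Matrix.map_one _ Int.cast_zero Int.cast_one, Matrix.one_mulVec, smul_smul,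
      show ((q : ℤ) : ZMod r) * ((5 : ℤ) : ZMod r) = 1 by
        rw [← Int.cast_mul, ← Int.cast_one, ZMod.intCast_eq_intCast_iff_dvd_sub, hr19, hq4]; norm_num, one_smul]
  have hcharOf : ∀ ρ ∈ goodE6.weyl, ∀ z : ℤ, (r : ℤ) ∣ (cyclotomic d ℤ).eval z →
      (goodE6.coMat ρ).map (Int.cast : ℤ → ZMod r) *ᵥ v = (z : ZMod r) • v →
      (goodE6.coMat ρ).charpoly = cyclotomic d ℤ := by
    intro ρ hρ z hz he'
    refine charpoly_eq_cyclotomic _ ?_ (orderOf_pos (⟨ρ, hρ⟩ : ↥goodE6.weyl)) hdtot hrd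
      (fun h => hrW (h.trans (orderOf_dvd_natCard _))) hz hv0 he'
    rw [← goodE6.coMat_pow hρ, show ρ ^ orderOf (⟨ρ, hρ⟩ : ↥goodE6.weyl) =
      ((⟨ρ, hρ⟩ : ↥goodE6.weyl) ^ orderOf (⟨ρ, hρ⟩ : ↥goodE6.weyl) : ↥goodE6.weyl).1 from rfl, pow_orderOf_eq_one]
    exact goodE6.coMat_one
  have hchar : R.charpoly = cyclotomic d ℤ :=
    hcharOf _ hπ' (q : ℤ) (by rw [hd9, eval_cyclotomic_nine, hr19, hq4]; norm_num) hRv
  have hcharπ : (goodE6.coMat π).charpoly = cyclotomic d ℤ :=
    hcharOf _ hπw 5 (by rw [hd9, eval_cyclotomic_nine, hr19]; norm_num) hπv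
  have hstab : ∀ ρ ∈ goodE6.weyl, (goodE6.coMat ρ).map (Int.cast : ℤ → ZMod r) *ᵥ v = v → ρ = 1 := by
    intro ρ₀ hρ₀ hρ₀v
    set S : Finset (Equiv.Perm (Fin chevE6.nroots)) := Finset.univ.filter fun ρ =>
      ρ ∈ goodE6.weyl ∧ (goodE6.coMat ρ).map (Int.cast : ℤ → ZMod r) *ᵥ v = v with hS
    have hmul : ∀ ρ ∈ S, ∀ σ ∈ S, ρ * σ ∈ S := by
      intro ρ hρ σ hσ
      simp only [hS, Finset.mem_filter, Finset.mem_univ, true_and] at hρ hσ ⊢
      refine ⟨mul_mem hρ.1 hσ.1, ?_⟩
      rw [goodE6.coMat_mul hρ.1, hmm, ← Matrix.mulVec_mulVec, hρ.2, hσ.2]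
    have hS1 : (1 : Equiv.Perm (Fin chevE6.nroots)) ∈ S := by
      simp only [hS, Finset.mem_filter, Finset.mem_univ, true_and]
      refine ⟨one_mem _, ?_⟩
      rw [goodE6.coMat_one, Matrix.map_one _ Int.cast_zero Int.cast_one, Matrix.one_mulVec]
    have hρS : ρ₀ ∈ S := by simp [hS, hρ₀, hρ₀v]
    set E : Matrix (Fin chevE6.rank) (Fin chevE6.rank) ℤ := ∑ ρ ∈ S, goodE6.coMat ρ with hE
    have hEv : E.map (Int.cast : ℤ → ZMod r) *ᵥ v = ((S.card : ℕ) : ZMod r) • v := by
      rw [show E.map (Int.cast : ℤ → ZMod r) = (Int.castRingHom (ZMod r)).mapMatrix E from rfl, hE, map_sum,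
        Matrix.sum_mulVec]
      have hone : ∀ ρ ∈ S, (Int.castRingHom (ZMod r)).mapMatrix (goodE6.coMat ρ) *ᵥ v = v := fun ρ hρ => by
        simp only [hS, Finset.mem_filter] at hρ
        exact hρ.2.2
      rw [Finset.sum_congr rfl hone, Finset.sum_const, Nat.cast_smul_eq_nsmul]
    have hScard : ¬ r ∣ S.card := by
      intro hdvd
      let SG : Subgroup (Equiv.Perm (Fin chevE6.nroots)) :=
        { carrier := ↑S
          mul_mem' := fun h1 h2 => hmul _ h1 _ h2
          one_mem' := hS1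
          inv_mem' := fun {ρ} hρ => by
            have hpow : ∀ i : ℕ, ρ ^ i ∈ S := fun i => by
              induction i with
              | zero => simpa using hS1
              | succ i ih => rw [pow_succ]; exact hmul _ ih _ hρ
            show ρ⁻¹ ∈ S
            rw [show ρ⁻¹ = ρ ^ (orderOf ρ - 1) from inv_eq_of_mul_eq_one_right (by
              rw [← pow_succ', Nat.sub_add_cancel (orderOf_pos ρ), pow_orderOf_eq_one])]
            exact hpow _ }
      have hle : SG ≤ goodE6.weyl := fun ρ hρ => by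
        have hρ' : ρ ∈ S := hρ
        simp only [hS, Finset.mem_filter] at hρ'
        exact hρ'.2.1
      refine hrW (hdvd.trans ?_)
      refine dvd_trans (dvd_of_eq ?_) (Subgroup.card_dvd_of_le hle)
      show S.card = Nat.card ↥(↑S : Set (Equiv.Perm (Fin chevE6.nroots)))
      simp
    have hEne : E ≠ 0 := by
      intro h0
      rw [h0, Matrix.map_zero _ Int.cast_zero, Matrix.zero_mulVec, eq_comm, smul_eq_zero] at hEv
      rcases hEv with h | h
      · exact hScard ((CharP.cast_eq_zero_iff (ZMod r) r _).1 h)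
      · exact hv0 h
    have hconjS : ∀ ρ ∈ S, π * ρ * π⁻¹ ∈ S := by
      intro ρ hρ
      simp only [hS, Finset.mem_filter, Finset.mem_univ, true_and] at hρ ⊢
      refine ⟨mul_mem (mul_mem hπw hρ.1) hπ', ?_⟩
      have hv' : v = ((q : ℤ) : ZMod r) • ((goodE6.coMat π).map (Int.cast : ℤ → ZMod r) *ᵥ v) := by
        rw [← Matrix.mulVec_smul, ← hRv, Matrix.mulVec_mulVec, ← hmm, hR, (goodE6.coMat_inv_mul hπw).2,
          Matrix.map_one _ Int.cast_zero Int.cast_one, Matrix.one_mulVec]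
      rw [goodE6.coMat_mul (mul_mem hπw hρ.1), goodE6.coMat_mul hπw, hmm, hmm, ← Matrix.mulVec_mulVec,
        ← Matrix.mulVec_mulVec]
      refine smul_right_injective (Fin chevE6.rank → ZMod r) hq0 ?_
      show ((q : ℤ) : ZMod r) • _ = ((q : ℤ) : ZMod r) • v
      rw [← hRv, hR]
      conv_rhs => rw [← hρ.2]
      rw [← Matrix.mulVec_smul, ← Matrix.mulVec_smul, ← Matrix.mulVec_smul]
      congr 1
      rw [Matrix.mulVec_smul _ _ v, ← hv']
    have hcomm : E * R = R * E := by
      have h : R * E * goodE6.coMat π = E := by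
        rw [hE, Finset.mul_sum, Finset.sum_mul]
        have hterm : ∀ ρ ∈ S, R * goodE6.coMat ρ * goodE6.coMat π = goodE6.coMat (π * ρ * π⁻¹) := fun ρ hρ => by
          have hρw : ρ ∈ goodE6.weyl := by simp only [hS, Finset.mem_filter] at hρ; exact hρ.2.1
          rw [goodE6.coMat_mul (mul_mem hπw hρw), goodE6.coMat_mul hπw, hR, Matrix.mul_assoc]
        rw [Finset.sum_congr rfl hterm]
        refine Finset.sum_bij (fun ρ _ => π * ρ * π⁻¹) hconjS (fun ρ _ σ _ h => by
          simpa using h) (fun ρ hρ => ?_) fun ρ _ => rfl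
        have hsurj : (S.image fun ρ => π * ρ * π⁻¹) = S :=
          Finset.eq_of_subset_of_card_le (Finset.image_subset_iff.2 hconjS)
            (by rw [Finset.card_image_of_injective _ fun _ _ h => by simpa using h])
        rw [← hsurj, Finset.mem_image] at hρ
        obtain ⟨σ, hσ, hσ'⟩ := hρ
        exact ⟨σ, hσ, hσ'⟩
      calc E * R = R * E * goodE6.coMat π * R := by rw [h]
        _ = R * E := by rw [Matrix.mul_assoc (R * E), hR, (goodE6.coMat_inv_mul hπw).2, Matrix.mul_one]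
    have hEd := det_ne_zero_of_commute (by omega) hchar hcomm hEne
    refine goodE6.coMat_eq_one hρ₀ ?_
    have h2 : goodE6.coMat ρ₀ * E = E := by
      rw [hE, Finset.mul_sum]
      have hterm : ∀ σ ∈ S, goodE6.coMat ρ₀ * goodE6.coMat σ = goodE6.coMat (σ * ρ₀) := fun σ hσ => by
        simp only [hS, Finset.mem_filter] at hσ
        rw [goodE6.coMat_mul hσ.2.1]
      rw [Finset.sum_congr rfl hterm]
      refine Finset.sum_bij (fun σ _ => σ * ρ₀) (fun σ hσ => hmul _ hσ _ hρS)
        (fun σ _ τ _ h => mul_right_cancel h) (fun σ hσ => ?_) fun σ _ => rfl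
      have hsurj : (S.image fun τ => τ * ρ₀) = S :=
        Finset.eq_of_subset_of_card_le (Finset.image_subset_iff.2 fun τ hτ => hmul _ hτ _ hρS)
          (by rw [Finset.card_image_of_injective _ fun _ _ h => mul_right_cancel h])
      rw [← hsurj, Finset.mem_image] at hσ
      obtain ⟨τ, hτ, hτ'⟩ := hσ
      exact ⟨τ, hτ, hτ'⟩
    have h3 : (goodE6.coMat ρ₀ - 1) * (E.det • (1 : Matrix (Fin chevE6.rank) (Fin chevE6.rank) ℤ)) = 0 := by
      rw [← Matrix.mul_adjugate, ← Matrix.mul_assoc, Matrix.sub_mul, Matrix.one_mul, h2, sub_self, Matrix.zero_mul]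
    rw [Matrix.mul_smul, Matrix.mul_one, smul_eq_zero] at h3
    exact sub_eq_zero.1 (h3.resolve_left hEd)
  have hne : ∀ u : Fin chevE6.nroots, rootVal c u ≠ 1 := by
    intro u h1
    rw [hval, ← _root_.zpow_zero γ, ← mul_zero (m : ℤ), hmr, Int.cast_zero] at h1
    obtain ⟨s, hs, hsu, hsfix⟩ := goodE6.exists_reflection u
    have := hstab s hs (hsfix _ v (by rw [← h1, Int.cast_sum]; simp [hv]))
    rw [this, Equiv.Perm.one_apply] at hsu
    exact goodE6.neg_ne u.2 (congrArg Fin.val hsu).symm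
  have hcentral : ∀ {y : GL chevE6.Idx L}, y ∈ chevE6.group L → y * torHom chevE6 L c = torHom chevE6 L c * y →
      y ∈ chevE6.diagonalSubgroup L := by
    intro y hy hcy
    refine goodE6.centralizer_regular_stab hc (c := c) (fun u hu => hne ⟨u, hu⟩) ?_ hy hcy
    intro _ ρ hρw _ hρfix
    refine hstab ρ hρw (funext fun j => ?_)
    rw [hvec, hv]
    have h := hρfix (goodE6.sroot j)
    rw [hval, hval, hmr, hsum] at h
    exact h
  have hafn : af * n ∈ chevE6.diagonalSubgroup L := by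
    refine hcentral (mul_mem hafm (goodE6.monomial_le_group hn)) ?_
    have h1 : n * torHom chevE6 L c = af⁻¹ * torHom chevE6 L c * af * n := by
      rw [← hφt, ← hnt]; group
    rw [mul_assoc, h1]; group
  have hkey : ∀ {z : GL chevE6.Idx L}, z ∈ chevE6.diagonalSubgroup L →
      (scalarGL chevE6 φ (gc * z * gc⁻¹) = gc * z * gc⁻¹ ↔ scalarGL chevE6 φ z = n * z * n⁻¹) := by
    intro z hz
    have hgg : scalarGL chevE6 φ gc = gc * af := by rw [haf]; group
    have hz2 : af⁻¹ * z * af = n * z * n⁻¹ := by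
      have h := goodE6.diagonal_comm hafn hz
      calc af⁻¹ * z * af = n * ((af * n)⁻¹ * (z * (af * n))) * n⁻¹ := by group
        _ = n * z * n⁻¹ := by rw [← h, inv_mul_cancel_left]
    rw [map_mul, map_mul, map_inv, hgg, ← hz2]
    constructor
    · intro h
      calc scalarGL chevE6 φ z = af⁻¹ * (gc⁻¹ * (gc * af * scalarGL chevE6 φ z * (gc * af)⁻¹) * gc) * af := by group
        _ = af⁻¹ * z * af := by rw [h]; group
    · intro h; rw [h]; group
  -- the exponent group
  obtain ⟨N, hN⟩ : ∃ N : ℕ, N = 4161 := ⟨4161, rfl⟩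
  have hNev : (cyclotomic d ℤ).eval (q : ℤ) = (N : ℤ) := by rw [hd9, eval_cyclotomic_nine, hq4, hN]; norm_num
  set A : Matrix (Fin chevE6.rank) (Fin chevE6.rank) ℤ := Matrix.scalar _ (q : ℤ) - R with hA
  have hdet : A.det = (N : ℤ) := by rw [hA, ← hNev, ← hchar, Matrix.eval_charpoly]
  have hA0 : A.det ≠ 0 := by rw [hdet, hN]; norm_num
  have hKcard : Nat.card (kerMod A M) = N := by
    rw [kerMod, card_ker_mod A hA0 (by rw [hdet, hN, hMval]; norm_num), hdet, Int.natAbs_natCast]
  have hKmem : ∀ κ : Fin chevE6.rank → ℤ, (fun j => (κ j : ZMod M)) ∈ kerMod A M ↔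
      ∀ j, (((q : ℤ) * κ j : ℤ) : ZMod M) = ((∑ i, goodE6.coVec (π⁻¹ (goodE6.sroot j)) i * κ i : ℤ) : ZMod M) := by
    intro κ
    rw [intCast_mem_kerMod]
    refine forall_congr' fun j => ?_
    rw [hA, Matrix.sub_mulVec, Pi.sub_apply, Int.cast_sub, sub_eq_zero, Matrix.scalar_apply, Matrix.mulVec_diagonal]
    rfl
  -- the centraliser of x
  set C : Subgroup ↥(chevE6.group F) := (chevE6.diagonalSubgroup L).comap Θ with hC
  have hdt : ∀ y : C, ∃ e, torHom chevE6 L e = Θ y := fun y => by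
    have h : Θ y ∈ chevE6.diagonalSubgroup L := y.2
    rw [goodE6.diagonal_eq_range] at h
    exact h
  choose et het using hdt
  choose ex hex using fun y : C => hexp (et y)
  have hexj : ∀ (y : C) (e : Fin chevE6.rank → Lˣ), torHom chevE6 L e = Θ y → ∀ j : Fin chevE6.rank,
      rootVal e (chevE6.simple j) = γ ^ ex y j := by
    intro y e he' j
    rw [goodE6.rootVal_eq_of_torHom (he'.trans (het y).symm) (goodE6.simple_lt j.2),
      show chevE6.simple j = ((goodE6.sroot j : Fin chevE6.nroots) : ℕ) from rfl, hex, hsum]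
  have hexK : ∀ y : C, (fun j => (ex y j : ZMod M)) ∈ kerMod A M := by
    intro y
    rw [hKmem]
    intro j
    have h1 : scalarGL chevE6 φ (torHom chevE6 L (et y)) = n * torHom chevE6 L (et y) * n⁻¹ := by
      rw [← hkey (goodE6.torHom_mem _), het, hΘv,
        show gc * (gc⁻¹ * scalarGL chevE6 ι (y : ↥(chevE6.group F)) * gc) * gc⁻¹ = scalarGL chevE6 ι (y : ↥(chevE6.group F)) by group]
      exact hφx _
    rw [scalarGL_torHom] at h1
    have h := goodE6.rootVal_conj hπ h1.symm (π⁻¹ (goodE6.sroot j))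
    rw [show π (π⁻¹ (goodE6.sroot j)) = goodE6.sroot j from π.apply_symm_apply _, hφval, hex, hsum, hex,
      ← zpow_natCast, ← _root_.zpow_mul, mul_comm, hzz] at h
    exact h
  let f : C →* Multiplicative (kerMod A M) :=
    MonoidHom.mk' (fun y => Multiplicative.ofAdd ⟨_, hexK y⟩) fun y y' => by
      rw [← ofAdd_add]
      congr 1
      refine Subtype.ext (funext fun j => ?_)
      show ((ex (y * y') j : ℤ) : ZMod M) = (ex y j : ZMod M) + (ex y' j : ZMod M)
      rw [← Int.cast_add, ← hzz, _root_.zpow_add, ← hexj y _ (het y), ← hexj y' _ (het y'),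
        ← rootVal_mul, ← hexj (y * y') (et y * et y') (by rw [map_mul, het, het, Subgroup.coe_mul, map_mul])]
  have hfinj : Function.Injective f := fun y y' h => Subtype.ext <| hΘinj <| by
    rw [← het y, ← het y']
    refine goodE6.torHom_eq_of_simple fun j => ?_
    rw [hexj y _ (het y), hexj y' _ (het y'), hzz]
    exact congrFun (congrArg Subtype.val (Multiplicative.ofAdd.injective h)) j
  have hyC : y ∈ C := by
    show Θ y ∈ chevE6.diagonalSubgroup L
    have hΘm : Θ y ∈ chevE6.group L := by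
      rw [hΘv]; exact mul_mem (mul_mem (inv_mem hgc) (goodE6.scalarGL_mem ι y.2)) hgc
    refine hcentral hΘm ?_
    rw [show torHom chevE6 L c = Θ x from hct.trans (hΘv x).symm, ← map_mul, ← map_mul, hxy]
  haveI : Finite (Multiplicative (kerMod A M)) := inferInstanceAs (Finite (kerMod A M))
  have hyN : (⟨y, hyC⟩ : C) ^ N = 1 := hfinj (by
    rw [map_pow, map_one, ← hKcard, ← Nat.card_congr (Multiplicative.toAdd (α := ↥(kerMod A M))),
      pow_card_eq_one'])
  have hyN' : y ^ N = 1 := congrArg Subtype.val hyN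
  have h27 : 27 ∣ Fintype.card L - 1 := by rw [hL, ← hMdef, hMval]; norm_num
  have hev3 : (goodE6.coMat π).charpoly.eval (q : ℤ) = (4161 : ℤ) := by rw [hcharπ, hNev, hN]; norm_num
  refine no_three ι φ q hφ hφι h27 hgc hn hπw hπ hafn (by rw [hq4]; decide)
    (by rw [hev3]; norm_num) (by rw [hev3]; norm_num) (y := y ^ 1387) ?_ ?_
  · rw [← pow_mul, show 1387 * 3 = N by omega, hyN']
  · rw [← hΘv]; exact C.pow_mem hyC 1387

end CfsgLib.Chev.TwE6Loc
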