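import Cfsg.Agent.Lib.Chev.TwE6Loc.Reps
import Cfsg.Agent.Lib.Chev.TwE6Loc.Outer
import Cfsg.Agent.Lib.Chev.TwE6Loc.SpringerNine

/-!
The normaliser of a subgroup of order nineteen of the twisted group of type E6 over the field with four elements
is not maximal: it lies in the centraliser of an automorphism of order three, whose fixed points on an invariant
elementary abelian subgroup of order 243 are too large for the normaliser.
-/

set_option autoImplicit false
set_option maxRecDepth 100000
set_option linter.unusedSimpArgs false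
set_option linter.unusedSectionVars false

namespace CfsgLib.Chev.TwE6Loc

open Cfsg.Lie CfsgLib.Chev CfsgLib.Chev.E6C CfsgLib.Chev.F4InE6 CfsgLib.Chev.FiInE6 CfsgLib.Chev.TwE6Five
open scoped Pointwise

section Group

variable {G : Type*} [Group G]

/-- An automorphism of order three of an abelian group of exponent three and order 243 has at least nine fixed
points. -/
theorem fixed_ge_nine {A : Type*} [CommGroup A] [Finite A] (hA : Nat.card A = 243) (h3 : ∀ a : A, a ^ 3 = 1)
    (σ : A →* A) (hσ : ∀ a, σ (σ (σ a)) = a) : 9 ≤ Nat.card {a : A // σ a = a} := by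
  classical
  let f : A →* A := MonoidHom.mk' (fun a => σ a / a) fun a b => by rw [map_mul, mul_div_mul_comm]
  have hf : ∀ a, f (f (f a)) = 1 := by
    intro a
    show σ (σ (σ a / a) / (σ a / a)) / (σ (σ a / a) / (σ a / a)) = 1
    simp only [map_div, hσ]
    have e1 := h3 (σ a)
    have e2 := h3 (σ (σ a))
    calc a / σ (σ a) / (σ (σ a) / σ a) / (σ (σ a) / σ a / (σ a / a))
        = (σ a) ^ 3 * ((σ (σ a)) ^ 3)⁻¹ := by
          simp only [div_eq_mul_inv, mul_inv_rev, inv_inv, pow_succ, pow_zero, one_mul]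
          simp only [mul_comm, mul_assoc, mul_left_comm]
          group
      _ = 1 := by rw [e1, e2, inv_one, mul_one]
  have hker : Nat.card f.ker = Nat.card {a : A // σ a = a} :=
    Nat.card_congr (Equiv.subtypeEquivRight fun a => by
      show σ a / a = 1 ↔ _
      exact div_eq_one)
  have hcard : ∀ H : Subgroup A, Nat.card H ≤ Nat.card f.ker * Nat.card (H.map f) := by
    intro H
    have h := Subgroup.card_eq_card_quotient_mul_card_subgroup (f.comp H.subtype).ker
    rw [Nat.card_congr (QuotientGroup.quotientKerEquivRange (f.comp H.subtype)).toEquiv, MonoidHom.range_comp,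
      Subgroup.range_subtype, mul_comm] at h
    rw [h]
    refine Nat.mul_le_mul_right _ (Nat.card_le_card_of_injective
      (fun x => (⟨x.1.1, x.2⟩ : ↥f.ker)) fun x y e => ?_)
    exact Subtype.ext (Subtype.ext (congrArg (fun z : ↥f.ker => z.1) e))
  have hbot : ((⊤ : Subgroup A).map f |>.map f |>.map f) = ⊥ := by
    rw [Subgroup.map_map, Subgroup.map_map, eq_bot_iff]
    rintro _ ⟨a, -, rfl⟩
    exact hf a
  have h1 := hcard ⊤
  have h2 := hcard ((⊤ : Subgroup A).map f)
  have h3' := hcard (((⊤ : Subgroup A).map f).map f)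
  rw [hbot, Subgroup.card_bot, mul_one] at h3'
  rw [Subgroup.card_top, hA] at h1
  have hd : Nat.card f.ker ∣ 3 ^ 5 := (Subgroup.card_subgroup_dvd_card f.ker).trans (by rw [hA]; norm_num)
  obtain ⟨k, hk, hk'⟩ := (Nat.dvd_prime_pow Nat.prime_three).1 hd
  rw [← hker]
  by_contra hlt
  have hk3 : Nat.card f.ker ≤ 3 := by
    rcases Nat.lt_or_ge k 2 with h | h
    · rw [hk']; exact le_trans (Nat.pow_le_pow_right (by norm_num) (show k ≤ 1 by omega)) (by norm_num)
    · exfalso; apply hlt; rw [hk']; exact le_trans (by norm_num) (Nat.pow_le_pow_right (by norm_num) h)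
  nlinarith [h1, h2, h3', hk3, Nat.mul_le_mul hk3 (h3'.trans hk3)]

/-- A subgroup of exponent three in the normaliser of a self-centralising subgroup of order nineteen has order at
most three. -/
theorem exp_three_small [Finite G] {x : G} (hx : orderOf x = 19)
    (hC : ∀ y, x * y = y * x → y ∈ Subgroup.zpowers x) {D : Subgroup G}
    (hD : D ≤ Subgroup.normalizer ((Subgroup.zpowers x : Subgroup G) : Set G)) (h3 : ∀ d ∈ D, d ^ 3 = 1) :
    Nat.card D ≤ 3 := by
  classical
  haveI : Fact (Nat.Prime 19) := ⟨by norm_num⟩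
  let φ : ↥D →* MulAut ↥(Subgroup.zpowers x) :=
    (Subgroup.normalizerMonoidHom (Subgroup.zpowers x)).comp (Subgroup.inclusion hD)
  have hinj : Function.Injective φ := by
    refine (injective_iff_map_eq_one φ).2 fun d hd => ?_
    have h := congrArg Subtype.val (MulEquiv.congr_fun hd ⟨x, Subgroup.mem_zpowers x⟩)
    have h' : (d : G) * x * (d : G)⁻¹ = x := h
    have hmem : (d : G) ∈ Subgroup.zpowers x := hC _ (by rw [mul_inv_eq_iff_eq_mul] at h'; exact h'.symm)
    have h19 : (d : G) ^ 19 = 1 := by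
      obtain ⟨i, hi⟩ := hmem
      rw [← hi, ← zpow_natCast, ← _root_.zpow_mul, mul_comm, _root_.zpow_mul, zpow_natCast, ← hx, pow_orderOf_eq_one,
        one_zpow]
    have := pow_gcd_eq_one.2 ⟨h19, h3 _ d.2⟩
    exact Subtype.ext (by simpa using this)
  have hcyc : IsCyclic (MulAut ↥(Subgroup.zpowers x)) := by
    haveI : IsCyclic ↥(Subgroup.zpowers x) := inferInstance
    have hc : Nat.card ↥(Subgroup.zpowers x) = 19 := by rw [Nat.card_zpowers, hx]
    exact isCyclic_of_surjective ((IsCyclic.mulAutMulEquiv ↥(Subgroup.zpowers x)).symm.toMonoidHom.comp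
      (Units.mapEquiv ((ZMod.ringEquivCongr hc).symm : ZMod 19 ≃+* ZMod _).toMulEquiv).toMonoidHom)
      ((IsCyclic.mulAutMulEquiv ↥(Subgroup.zpowers x)).symm.surjective.comp
        (Units.mapEquiv ((ZMod.ringEquivCongr hc).symm : ZMod 19 ≃+* ZMod _).toMulEquiv).surjective)
  haveI : Finite (MulAut ↥(Subgroup.zpowers x)) := inferInstance
  haveI := isCyclic_of_injective φ hinj
  obtain ⟨d, hd⟩ := IsCyclic.exists_generator (α := ↥D)
  rw [← orderOf_eq_card_of_forall_mem_zpowers hd]
  exact Nat.le_of_dvd (by norm_num) (orderOf_dvd_of_pow_eq_one (Subtype.ext (by simpa using h3 _ d.2)))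

end Group

variable {K : Type*} [Field K] [CharP K 2] {ω : Kˣ} (hω : ω ^ 3 = 1) (h1 : ω ≠ 1) [Fintype K]
  (hK : Fintype.card K = 4)

include hω h1 hK

/-- The element of order nineteen is self-centralising. -/
theorem x19_centralizer (y : ↥(twistedE6 K 2)) (hy : x19 hω h1 * y = y * x19 hω h1) :
    y ∈ Subgroup.zpowers (x19 hω h1) := by
  haveI : Finite ↥(twistedE6 K 2) := Nat.finite_of_card_ne_zero (by rw [card_eq hK]; norm_num)
  haveI : Fact (Nat.Prime 19) := ⟨by norm_num⟩
  obtain ⟨x1, x19', -, -⟩ := x19_facts hω h1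
  have ho : orderOf (x19 hω h1) = 19 := orderOf_eq_prime x19' x1
  let ι : ↥(twistedE6 K 2) →* ↥(chevE6.group K) := Subgroup.inclusion twisted_le_group
  have hιinj : Function.Injective ι := Subgroup.inclusion_injective _
  have h87 := centralizer_nineteen hK (x := ι (x19 hω h1)) (y := ι y)
    (by rw [orderOf_injective ι hιinj, ho]) (by rw [← map_mul, hy, map_mul])
  have h87' : y ^ 1387 = 1 := hιinj (by rw [map_pow, h87, map_one])
  have h19 : y ^ 19 = 1 := by
    have := pow_gcd_eq_one.2 ⟨h87', pow_card_eq_one' (x := y)⟩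
    rwa [card_eq hK] at this
  set H := Subgroup.closure {x19 hω h1, y}
  have hH : IsPGroup 19 H := fun z => by
    obtain ⟨i, j, -, hz⟩ := pow_eq_one_of_mem hy x19' h19 z.2
    exact ⟨1, Subtype.ext (by simpa using hz)⟩
  obtain ⟨n, hn⟩ := IsPGroup.iff_card.1 hH
  have hn1 : n ≤ 1 := by
    by_contra hgt
    have h2 : 19 ^ 2 ∣ Nat.card ↥(twistedE6 K 2) :=
      (pow_dvd_pow 19 (show 2 ≤ n by omega)).trans (hn ▸ Subgroup.card_subgroup_dvd_card H)
    rw [card_eq hK] at h2
    norm_num at h2
  have hle : Subgroup.zpowers (x19 hω h1) ≤ H :=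
    Subgroup.zpowers_le.2 (Subgroup.subset_closure (Set.mem_insert _ _))
  have heq : Subgroup.zpowers (x19 hω h1) = H := Subgroup.eq_of_le_of_card_ge hle (by
    rw [hn, Nat.card_zpowers, ho]
    exact le_trans (Nat.pow_le_pow_right (by norm_num) hn1) (by norm_num))
  exact heq ▸ Subgroup.subset_closure (Set.mem_insert_of_mem _ rfl)

/-- The normaliser of the subgroup of order nineteen is not maximal. -/
theorem nineteen_rep :
    ¬ IsCoatom (Subgroup.normalizer ((Subgroup.zpowers (x19 hω h1) : Subgroup _) :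
      Set ↥(twistedE6 K 2))) := by
  classical
  intro hco
  haveI : Finite ↥(twistedE6 K 2) := Nat.finite_of_card_ne_zero (by rw [card_eq hK]; norm_num)
  haveI : Fact (Nat.Prime 19) := ⟨by norm_num⟩
  haveI : Fact (Nat.Prime 3) := ⟨Nat.prime_three⟩
  obtain ⟨x1, x19', -, -⟩ := x19_facts hω h1
  have ho : orderOf (x19 hω h1) = 19 := orderOf_eq_prime x19' x1
  set x := x19 hω h1 with hxdef
  set α := alpha hω h1 hK with hαdef
  have hαx : α x = x := alpha_x hω h1 hK
  have hα3 : ∀ a, α (α (α a)) = a := alpha_cube hω h1 hK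
  let F : Subgroup ↥(twistedE6 K 2) :=
    { carrier := {a | α a = a}
      one_mem' := map_one α
      mul_mem' := fun {a b} ha hb => by show α (a * b) = a * b; rw [map_mul, show α a = a from ha, show α b = b from hb]
      inv_mem' := fun {a} ha => by show α a⁻¹ = a⁻¹; rw [map_inv, show α a = a from ha] }
  -- the normaliser is fixed
  have hNF : Subgroup.normalizer ((Subgroup.zpowers x : Subgroup _) : Set ↥(twistedE6 K 2)) ≤ F := by
    intro n hn
    obtain ⟨m, hm⟩ := (Subgroup.mem_normalizer_iff.1 hn x).1 (Subgroup.mem_zpowers x)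
    have hm' : α n * x * (α n)⁻¹ = x ^ m := by
      have e := congrArg α hm
      simp only [map_zpow, map_mul, map_inv, hαx] at e
      exact e.symm
    have hcomm : x * (n⁻¹ * α n) = n⁻¹ * α n * x := by
      have h : α n * x * (α n)⁻¹ = n * x * n⁻¹ := hm'.trans hm
      calc x * (n⁻¹ * α n) = n⁻¹ * (n * x * n⁻¹) * α n := by group
        _ = n⁻¹ * (α n * x * (α n)⁻¹) * α n := by rw [h]
        _ = n⁻¹ * α n * x := by group
    obtain ⟨i, hi⟩ := x19_centralizer hω h1 hK _ hcomm
    have hn' : α n = n * x ^ i := by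
      have : x ^ i = n⁻¹ * α n := hi
      rw [this, mul_inv_cancel_left]
    have h3 : α (α (α n)) = n * (x ^ i * x ^ i * x ^ i) := by
      simp only [hn', map_mul, map_zpow, hαx, mul_assoc]
    rw [hα3, eq_comm, mul_eq_left, ← _root_.zpow_add, ← _root_.zpow_add] at h3
    have hd := orderOf_dvd_iff_zpow_eq_one.2 h3
    rw [ho] at hd
    have hi' : ((orderOf x : ℕ) : ℤ) ∣ i := by rw [ho]; omega
    show α n = n
    rw [hn', orderOf_dvd_iff_zpow_eq_one.1 hi', mul_one]
  have hFtop : F ≠ ⊤ := by
    obtain ⟨a, ha⟩ := exists_moved hω h1 hK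
    intro h
    exact ha (show a ∈ F by rw [h]; exact Subgroup.mem_top a)
  have hFN : F = Subgroup.normalizer ((Subgroup.zpowers x : Subgroup _) : Set ↥(twistedE6 K 2)) :=
    by_contra fun hne => hFtop (hco.2 F (lt_of_le_of_ne hNF (Ne.symm hne)))
  -- an invariant conjugate of the elementary abelian subgroup
  set E := frame hω h1 with hEdef
  let Ω : Set (Subgroup ↥(twistedE6 K 2)) := Set.range fun g => E.map (MulAut.conj g).toMonoidHom
  obtain ⟨g0, hg0⟩ := alpha_frame hω h1 hK
  have hαΩ : ∀ H ∈ Ω, H.map α.toMonoidHom ∈ Ω := by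
    rintro _ ⟨g, rfl⟩
    refine ⟨α g * g0, ?_⟩
    have hc : α.toMonoidHom.comp (MulAut.conj g).toMonoidHom =
        (MulAut.conj (α g)).toMonoidHom.comp α.toMonoidHom := MonoidHom.ext fun a => by simp
    show E.map _ = (E.map _).map _
    rw [Subgroup.map_map, hc, ← Subgroup.map_map, hg0, Subgroup.map_map]
    congr 1
    exact MonoidHom.ext fun a => by simp [mul_assoc]
  haveI : Finite (Subgroup ↥(twistedE6 K 2)) := inferInstance
  let σ : Equiv.Perm ↥Ω :=
    { toFun := fun H => ⟨_, hαΩ _ H.2⟩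
      invFun := fun H => ⟨_, hαΩ _ (hαΩ _ H.2)⟩
      left_inv := fun H => Subtype.ext (by
        show ((H.1.map α.toMonoidHom).map α.toMonoidHom).map α.toMonoidHom = H.1
        rw [Subgroup.map_map, Subgroup.map_map]
        convert Subgroup.map_id H.1
        exact MonoidHom.ext fun a => hα3 a)
      right_inv := fun H => Subtype.ext (by
        show ((H.1.map α.toMonoidHom).map α.toMonoidHom).map α.toMonoidHom = H.1
        rw [Subgroup.map_map, Subgroup.map_map]
        convert Subgroup.map_id H.1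
        exact MonoidHom.ext fun a => hα3 a) }
  have hσ3 : σ ^ 3 ^ 1 = 1 := by
    rw [pow_one, pow_succ, pow_two]
    exact Equiv.ext fun H => σ.left_inv H |> fun h => h
  have hΩcard : ¬ 3 ∣ Nat.card ↥Ω := by
    have horb : Ω = MulAction.orbit (ConjAct ↥(twistedE6 K 2)) E := by
      ext H
      constructor
      · rintro ⟨g, rfl⟩
        exact ⟨ConjAct.toConjAct g, SetLike.coe_injective rfl⟩
      · rintro ⟨g, rfl⟩
        exact ⟨ConjAct.ofConjAct g, SetLike.coe_injective rfl⟩
    have hN := three_pow_dvd_normalizer hω h1 hK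
    have hst : Nat.card (MulAction.stabilizer (ConjAct ↥(twistedE6 K 2)) E) =
        Nat.card (Subgroup.normalizer ((E : Subgroup _) : Set ↥(twistedE6 K 2))) := by
      refine Nat.card_congr (Equiv.subtypeEquiv ConjAct.ofConjAct.toEquiv fun g => ?_)
      rw [MulAction.mem_stabilizer_iff, Subgroup.ext_iff, Subgroup.mem_normalizer_iff']
      simp only [Subgroup.mem_pointwise_smul_iff_inv_smul_mem, ConjAct.smul_def, map_inv, inv_inv,
        MulEquiv.toEquiv_eq_coe, EquivLike.coe_coe]
      constructor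
      · intro h a
        have := h (ConjAct.ofConjAct g * a)
        simpa [mul_assoc] using this
      · intro h a
        have := h ((ConjAct.ofConjAct g)⁻¹ * a)
        simpa [mul_assoc] using this
    intro hd
    have hprod := Nat.card_congr (MulAction.orbitProdStabilizerEquivGroup (ConjAct ↥(twistedE6 K 2)) E)
    rw [Nat.card_prod, hst, show Nat.card (MulAction.orbit (ConjAct ↥(twistedE6 K 2)) E) = Nat.card ↥Ω by rw [horb],
      show Nat.card (ConjAct ↥(twistedE6 K 2)) = Nat.card ↥(twistedE6 K 2) from rfl, card_eq hK] at hprod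
    have h10 := Nat.mul_dvd_mul hd hN
    rw [hprod] at h10
    norm_num at h10
  haveI : Fintype ↥Ω := Fintype.ofFinite _
  obtain ⟨⟨H, g, rfl⟩, hHfix⟩ := Equiv.Perm.exists_fixed_point_of_prime
    (by rwa [← Nat.card_eq_fintype_card]) hσ3
  have hHmap : (E.map (MulAut.conj g).toMonoidHom).map α.toMonoidHom = E.map (MulAut.conj g).toMonoidHom :=
    congrArg Subtype.val hHfix
  set H := E.map (MulAut.conj g).toMonoidHom with hHdef
  have hH3 : ∀ a ∈ H, a ^ 3 = 1 := by
    rintro _ ⟨e, he, rfl⟩
    rw [← map_pow, frame_pow hω h1 he, map_one]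
  have hHc : ∀ a b : ↥H, a * b = b * a := by
    rintro ⟨_, e, he, rfl⟩ ⟨_, e', he', rfl⟩
    refine Subtype.ext ?_
    show (MulAut.conj g) e * (MulAut.conj g) e' = (MulAut.conj g) e' * (MulAut.conj g) e
    rw [← map_mul, ← map_mul, show e * e' = e' * e from
      congrArg Subtype.val ((frame_comm hω h1).is_comm.comm ⟨e, he⟩ ⟨e', he'⟩)]
  letI : CommGroup ↥H := { (inferInstance : Group ↥H) with mul_comm := hHc }
  have hmem : ∀ a ∈ H, α a ∈ H := fun a ha => hHmap ▸ Subgroup.mem_map_of_mem α.toMonoidHom ha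
  let τ : ↥H →* ↥H := MonoidHom.mk' (fun a => ⟨α a.1, hmem _ a.2⟩) fun a b => Subtype.ext (map_mul α a.1 b.1)
  have hcardH : Nat.card ↥H = 243 :=
    (Subgroup.card_map_of_injective (MulAut.conj g).injective).trans (card_frame hω h1)
  have hnine := fixed_ge_nine hcardH (fun a => Subtype.ext (hH3 _ a.2)) τ fun a => Subtype.ext (hα3 a.1)
  have hsmall := exp_three_small ho (fun y hy => x19_centralizer hω h1 hK y hy) (D := H ⊓ F)
    (hFN ▸ inf_le_right) fun d hd => hH3 d hd.1
  have hle : Nat.card {a : ↥H // τ a = a} ≤ Nat.card ↥(H ⊓ F) := by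
    refine Nat.card_le_card_of_injective (fun a => ⟨a.1.1, a.1.2, congrArg Subtype.val a.2⟩) fun a b e => ?_
    exact Subtype.ext (Subtype.ext (by have h := congrArg Subtype.val e; exact h))
  omega

/-- The prime nineteen. -/
theorem nineteen {P : Subgroup ↥(twistedE6 K 2)} (hP : IsPGroup 19 P) (hP1 : P ≠ ⊥) :
    ¬ IsCoatom (Subgroup.normalizer (P : Set ↥(twistedE6 K 2))) := by
  classical
  haveI : Fact (Nat.Prime 19) := ⟨by norm_num⟩
  haveI : Finite ↥(twistedE6 K 2) := Nat.finite_of_card_ne_zero (by rw [card_eq hK]; norm_num)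
  obtain ⟨x1, x19', -, -⟩ := x19_facts hω h1
  have ho : orderOf (x19 hω h1) = 19 := orderOf_eq_prime x19' x1
  have hne : Nat.card ↥(twistedE6 K 2) ≠ 0 := Nat.card_pos.ne'
  have hfac : (Nat.card ↥(twistedE6 K 2)).factorization 19 = 1 := by
    have h1' := ((by norm_num : Nat.Prime 19).pow_dvd_iff_le_factorization hne (k := 1)).1
      (by rw [card_eq hK]; norm_num)
    have h2' : ¬ 2 ≤ (Nat.card ↥(twistedE6 K 2)).factorization 19 := fun h => by
      have := ((by norm_num : Nat.Prime 19).pow_dvd_iff_le_factorization hne).2 h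
      rw [card_eq hK] at this
      norm_num at this
    omega
  obtain ⟨g, hg⟩ := exists_conj_le (Sylow.ofCard (Subgroup.zpowers (x19 hω h1))
    (by rw [Nat.card_zpowers, ho, hfac, pow_one])) hP
  refine coatom_conj g ?_
  rw [show P.map (MulAut.conj g).toMonoidHom = Subgroup.zpowers (x19 hω h1) from ?_]
  · exact nineteen_rep hω h1 hK
  refine Subgroup.eq_of_le_of_card_ge hg ?_
  rw [Nat.card_zpowers, ho, Subgroup.card_map_of_injective (MulAut.conj g).injective]
  obtain ⟨n, hn⟩ := IsPGroup.iff_card.1 hP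
  rw [hn]
  refine Nat.le_self_pow ?_ _
  rintro rfl
  exact hP1 (Subgroup.eq_bot_of_card_eq _ (by rw [hn, pow_zero]))

end CfsgLib.Chev.TwE6Loc
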