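import Cfsg.Agent.Lib.Chev.TwE6Loc.Checks
import Cfsg.Agent.Lib.Chev.TwistHOrders

/-!
No normaliser of a p-subgroup, p in {7, 11, 13, 17}, is maximal in the twisted group of type E6 over the field
with four elements: reduction of all such subgroups to the certified representatives.
-/

set_option autoImplicit false
set_option maxRecDepth 100000
set_option linter.unusedSimpArgs false
set_option linter.unusedSectionVars false

namespace CfsgLib.Chev.TwE6Loc

open Cfsg.Lie CfsgLib.Chev CfsgLib.Chev.E6C CfsgLib.Chev.F4InE6 CfsgLib.Chev.FiInE6 CfsgLib.Chev.TwE6Five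

section Group

variable {G : Type*} [Group G]

/-- Maximality of a normaliser is invariant under conjugation. -/
theorem coatom_conj {P : Subgroup G} (g : G)
    (h : ¬ IsCoatom (Subgroup.normalizer ((P.map (MulAut.conj g).toMonoidHom : Subgroup G) : Set G))) :
    ¬ IsCoatom (Subgroup.normalizer (P : Set G)) := fun hc => h <| by
  rw [← Subgroup.map_equiv_normalizer_eq P (MulAut.conj g)]
  exact (OrderIso.isCoatom_iff (MulEquiv.mapSubgroup (MulAut.conj g)) _).2 hc

/-- Every p-subgroup is conjugate into a given Sylow subgroup. -/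
theorem exists_conj_le [Finite G] {p : ℕ} [Fact p.Prime] (S : Sylow p G) {P : Subgroup G} (hP : IsPGroup p P) :
    ∃ g : G, P.map (MulAut.conj g).toMonoidHom ≤ S := by
  obtain ⟨Q, hQ⟩ := hP.exists_le_sylow
  obtain ⟨g, hg⟩ := MulAction.exists_smul_eq G Q S
  refine ⟨g, ?_⟩
  rw [← hg]
  exact Subgroup.map_mono hQ

/-- A group generated by two commuting elements of order dividing a number. -/
theorem pow_eq_one_of_mem {a b : G} (hab : a * b = b * a) {n : ℕ} (ha : a ^ n = 1) (hb : b ^ n = 1) {z : G}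
    (hz : z ∈ Subgroup.closure {a, b}) : ∃ i j : ℤ, z = a ^ i * b ^ j ∧ z ^ n = 1 := by
  have key : ∀ i j : ℤ, (a ^ i * b ^ j) ^ n = 1 := fun i j => by
    rw [((Commute.zpow_zpow hab i j)).mul_pow, ← zpow_natCast, ← _root_.zpow_mul, mul_comm, _root_.zpow_mul,
      zpow_natCast, ha, one_zpow, one_mul, ← zpow_natCast, ← _root_.zpow_mul, mul_comm, _root_.zpow_mul,
      zpow_natCast, hb, one_zpow]
  have hex : ∃ i j : ℤ, z = a ^ i * b ^ j := by
    induction hz using Subgroup.closure_induction with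
    | mem z hz =>
      rcases hz with rfl | rfl
      · exact ⟨1, 0, by simp⟩
      · exact ⟨0, 1, by simp⟩
    | one => exact ⟨0, 0, by simp⟩
    | mul u v _ _ hu hv =>
      obtain ⟨i, j, rfl⟩ := hu
      obtain ⟨k, l, rfl⟩ := hv
      refine ⟨i + k, j + l, ?_⟩
      rw [_root_.zpow_add, _root_.zpow_add, mul_assoc, ← mul_assoc (b ^ j),
        ((Commute.zpow_zpow hab k j)).symm.eq]
      simp only [mul_assoc]
    | inv u _ hu =>
      obtain ⟨i, j, rfl⟩ := hu
      exact ⟨-i, -j, by rw [_root_.mul_inv_rev, ← _root_.zpow_neg, ← _root_.zpow_neg,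
        (Commute.zpow_zpow hab (-i) (-j)).eq]⟩
  obtain ⟨i, j, rfl⟩ := hex
  exact ⟨i, j, rfl, key i j⟩

end Group

variable {K : Type*} [Field K] [CharP K 2] {ω : Kˣ} (hω : ω ^ 3 = 1) (h1 : ω ≠ 1) [Fintype K]
  (hK : Fintype.card K = 4)

include hK in
theorem card_eq : Nat.card ↥(twistedE6 K 2) = 2 ^ 36 * 3 ^ 9 * 5 ^ 2 * 7 ^ 2 * 11 * 13 * 17 * 19 := by
  have h := card_twistedE6 K (q := 2) (Nat.prime_two.isPrimePow) (by rw [hK]; norm_num)
  norm_num at h ⊢
  omega

include hK in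
theorem not_dvd {p : ℕ} (hp : p.Prime) (h5 : 5 < p) (hn : p ≠ 7 ∧ p ≠ 11 ∧ p ≠ 13 ∧ p ≠ 17 ∧ p ≠ 19) :
    ¬ p ∣ Nat.card ↥(twistedE6 K 2) := by
  rw [card_eq hK]
  intro h
  simp only [hp.dvd_mul] at h
  have e : ∀ {a k : ℕ}, p ∣ a ^ k → a.Prime → p = a := fun {a k} h ha =>
    (Nat.prime_dvd_prime_iff_eq hp ha).1 (hp.dvd_of_dvd_pow h)
  rcases h with ((((((h | h) | h) | h) | h) | h) | h) | h
  · have := e h Nat.prime_two; omega
  · have := e h Nat.prime_three; omega
  · have := e h (by norm_num); omega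
  · have := e h (by norm_num); omega
  all_goals
    have := Nat.le_of_dvd (by norm_num) h
    interval_cases p <;> norm_num at * <;> omega

include hω h1

theorem tW_append (L M : List ℕ) : tW hω h1 (L ++ M) = tW hω h1 L * tW hω h1 M := by
  refine Subtype.ext ?_
  show xW ω (L ++ M) = xW ω L * xW ω M
  rw [xW, xW, xW, List.map_append, List.prod_append]

theorem tW_rep (L : List ℕ) : ∀ k, tW hω h1 (List.replicate k L).flatten = tW hω h1 L ^ k
  | 0 => Subtype.ext rfl
  | k + 1 => by rw [List.replicate_succ, List.flatten_cons, tW_append, tW_rep L k, pow_succ']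

include hK

/-- A prime occurring to the first power. -/
theorem single {d : Data} (hW : d.okW = true) (hI : d.okI = true) (hp : d.p.Prime) (hp3 : Nat.Coprime d.p 3)
    (hw : d.w2 = d.w1) (h2 : ¬ d.p ^ 2 ∣ Nat.card ↥(twistedE6 K 2))
    {P : Subgroup ↥(twistedE6 K 2)} (hP : IsPGroup d.p P) (hP1 : P ≠ ⊥) :
    ¬ IsCoatom (Subgroup.normalizer (P : Set ↥(twistedE6 K 2))) := by
  classical
  haveI := Fact.mk hp
  haveI : Finite ↥(twistedE6 K 2) := Nat.finite_of_card_ne_zero (by rw [card_eq hK]; norm_num)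
  obtain ⟨c1, c2, -, -, hc⟩ := cert hω h1 hK hW hI hp3
  rw [hw, Set.pair_eq_singleton, ← Subgroup.zpowers_eq_closure] at hc
  have ho : orderOf (tW hω h1 d.w1) = d.p := orderOf_eq_prime c2 c1
  have hcard : Nat.card (Subgroup.zpowers (tW hω h1 d.w1)) = d.p := by rw [Nat.card_zpowers, ho]
  have hne : Nat.card ↥(twistedE6 K 2) ≠ 0 := Nat.card_pos.ne'
  have hS : Nat.card (Subgroup.zpowers (tW hω h1 d.w1)) =
      d.p ^ (Nat.card ↥(twistedE6 K 2)).factorization d.p := by
    rw [hcard]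
    have hd : d.p ∣ Nat.card ↥(twistedE6 K 2) := ho ▸ orderOf_dvd_natCard _
    have h1' := (hp.pow_dvd_iff_le_factorization hne (k := 1)).1 (by rwa [pow_one])
    have h2' : ¬ 2 ≤ (Nat.card ↥(twistedE6 K 2)).factorization d.p := fun h =>
      h2 ((hp.pow_dvd_iff_le_factorization hne).2 h)
    rw [show (Nat.card ↥(twistedE6 K 2)).factorization d.p = 1 by omega, pow_one]
  obtain ⟨g, hg⟩ := exists_conj_le (Sylow.ofCard _ hS) hP
  refine coatom_conj g ?_
  have hcard' : Nat.card (P.map (MulAut.conj g).toMonoidHom) = Nat.card P :=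
    Subgroup.card_map_of_injective (MulAut.conj g).injective
  rw [show P.map (MulAut.conj g).toMonoidHom = Subgroup.zpowers (tW hω h1 d.w1) from ?_]
  · exact hc
  refine Subgroup.eq_of_le_of_card_ge hg ?_
  rw [hcard, hcard']
  obtain ⟨n, hn⟩ := IsPGroup.iff_card.1 hP
  rw [hn]
  refine Nat.le_self_pow ?_ _
  rintro rfl
  exact hP1 (Subgroup.eq_bot_of_card_eq _ (by rw [hn, pow_zero]))

/-- The prime seven. -/
theorem seven {P : Subgroup ↥(twistedE6 K 2)} (hP : IsPGroup 7 P) (hP1 : P ≠ ⊥) :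
    ¬ IsCoatom (Subgroup.normalizer (P : Set ↥(twistedE6 K 2))) := by
  classical
  haveI : Fact (Nat.Prime 7) := ⟨by norm_num⟩
  haveI : Finite ↥(twistedE6 K 2) := Nat.finite_of_card_ne_zero (by rw [card_eq hK]; norm_num)
  set a := tW hω h1 c7a.w1 with ha
  set b := tW hω h1 c7b.w1 with hb
  obtain ⟨a1, a7, -, -, hA⟩ := cert hω h1 hK c7a_W c7a_I (by decide)
  obtain ⟨b1, b7, -, -, hB⟩ := cert hω h1 hK c7b_W c7b_I (by decide)
  obtain ⟨-, -, -, hcm, hE⟩ := cert hω h1 hK c7e_W c7e_I (by decide)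
  rw [show c7a.w2 = c7a.w1 from rfl, Set.pair_eq_singleton, ← Subgroup.zpowers_eq_closure, ← ha] at hA
  rw [show c7b.w2 = c7b.w1 from rfl, Set.pair_eq_singleton, ← Subgroup.zpowers_eq_closure, ← hb] at hB
  rw [show c7e.w1 = c7a.w1 ++ c7b.w1 from rfl, show c7e.w2 = c7a.w1 from rfl, tW_append, ← ha, ← hb] at hcm hE
  change a ≠ 1 at a1
  change b ≠ 1 at b1
  change a ^ 7 = 1 at a7
  change b ^ 7 = 1 at b7
  have hab : a * b = b * a := by
    rw [mul_assoc] at hcm; exact (mul_left_cancel hcm).symm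
  have hk : ∀ k < 7, a ^ k * b ≠ 1 ∧
      ¬ IsCoatom (Subgroup.normalizer ((Subgroup.zpowers (a ^ k * b) : Subgroup _) : Set ↥(twistedE6 K 2))) := by
    have aux : ∀ (d : Data) (k : ℕ), d.okW = true → d.okI = true → d.p = 7 → d.w2 = d.w1 →
        d.w1 = (List.replicate k c7a.w1).flatten ++ c7b.w1 → a ^ k * b ≠ 1 ∧
        ¬ IsCoatom (Subgroup.normalizer ((Subgroup.zpowers (a ^ k * b) : Subgroup _) : Set ↥(twistedE6 K 2))) := by
      intro d k hW hI hp hw2 hw
      obtain ⟨c1, -, -, -, hc⟩ := cert hω h1 hK hW hI (by rw [hp]; decide)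
      rw [hw2, Set.pair_eq_singleton, ← Subgroup.zpowers_eq_closure] at hc
      rw [hw, tW_append, tW_rep, ← ha, ← hb] at c1 hc
      exact ⟨c1, hc⟩
    intro k hk
    interval_cases k
    · simpa using (⟨b1, hB⟩ : b ≠ 1 ∧ _)
    · exact aux c7e1 1 c7e1_W c7e1_I rfl rfl rfl
    · exact aux c7e2 2 c7e2_W c7e2_I rfl rfl rfl
    · exact aux c7e3 3 c7e3_W c7e3_I rfl rfl rfl
    · exact aux c7e4 4 c7e4_W c7e4_I rfl rfl rfl
    · exact aux c7e5 5 c7e5_W c7e5_I rfl rfl rfl
    · exact aux c7e6 6 c7e6_W c7e6_I rfl rfl rfl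
  set E : Subgroup ↥(twistedE6 K 2) := Subgroup.closure {a, b} with hEdef
  have hEeq : Subgroup.closure {a * b, a} = E := by
    have ma : a ∈ E := Subgroup.subset_closure (Set.mem_insert _ _)
    have mb : b ∈ E := Subgroup.subset_closure (Set.mem_insert_of_mem _ rfl)
    refine le_antisymm ((Subgroup.closure_le _).2 ?_) ((Subgroup.closure_le _).2 ?_)
    · rintro z (rfl | rfl)
      exacts [mul_mem ma mb, ma]
    · have h1' : a ∈ Subgroup.closure {a * b, a} := Subgroup.subset_closure (Set.mem_insert_of_mem _ rfl)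
      have h2' : a * b ∈ Subgroup.closure {a * b, a} := Subgroup.subset_closure (Set.mem_insert _ _)
      rintro z (rfl | rfl)
      · exact h1'
      · have := mul_mem (inv_mem h1') h2'
        rwa [inv_mul_cancel_left] at this
  rw [hEeq] at hE
  have hE7 : IsPGroup 7 E := fun z => by
    obtain ⟨i, j, -, hz⟩ := pow_eq_one_of_mem hab a7 b7 z.2
    exact ⟨1, Subtype.ext (by simpa using hz)⟩
  have hoa : orderOf a = 7 := orderOf_eq_prime a7 a1
  have hne : Nat.card ↥(twistedE6 K 2) ≠ 0 := Nat.card_pos.ne'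
  have hfac : ∀ n, 7 ^ n ∣ Nat.card ↥(twistedE6 K 2) → n ≤ 2 := by
    intro n hn
    by_contra hgt
    have h3 : 7 ^ 3 ∣ Nat.card ↥(twistedE6 K 2) := (pow_dvd_pow 7 (show 3 ≤ n by omega)).trans hn
    rw [card_eq hK] at h3
    norm_num at h3
  obtain ⟨n, hn⟩ := IsPGroup.iff_card.1 hE7
  have hn2 : n = 2 := by
    have hle := hfac n (hn ▸ Subgroup.card_subgroup_dvd_card E)
    have hsub : Subgroup.zpowers a ≤ E := Subgroup.zpowers_le.2 (Subgroup.subset_closure (Set.mem_insert _ _))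
    have h7 : 7 ∣ 7 ^ n := by
      rw [← hn, ← hoa, ← Nat.card_zpowers]
      exact Subgroup.card_dvd_of_le hsub
    by_contra hne2
    have hn1 : n = 1 := by
      rcases Nat.eq_zero_or_pos n with rfl | h0
      · norm_num at h7
      · omega
    have heq : Subgroup.zpowers a = E := Subgroup.eq_of_le_of_card_ge hsub (by
      rw [hn, hn1, Nat.card_zpowers, hoa]; norm_num)
    obtain ⟨j, hj, hj'⟩ : ∃ j < 7, a ^ j = b := by
      have hbE : b ∈ Subgroup.zpowers a := heq ▸ Subgroup.subset_closure (Set.mem_insert_of_mem _ rfl)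
      obtain ⟨k, hk'⟩ := hbE
      refine ⟨(k % 7).toNat, by omega, ?_⟩
      rw [← hk', ← zpow_natCast, Int.toNat_of_nonneg (Int.emod_nonneg _ (by norm_num)),
        show ((7 : ℤ)) = (orderOf a : ℤ) by rw [hoa]; norm_num]
      exact zpow_mod_orderOf a k
    rcases Nat.eq_zero_or_pos j with rfl | hj0
    · exact b1 (by rw [← hj', pow_zero])
    · exact (hk (7 - j) (by omega)).1 (by rw [← hj', ← pow_add, show 7 - j + j = 7 by omega, a7])
  have hS : Nat.card E = 7 ^ (Nat.card ↥(twistedE6 K 2)).factorization 7 := by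
    rw [hn, hn2]
    have hd : 7 ^ 2 ∣ Nat.card ↥(twistedE6 K 2) := (hn2 ▸ hn : Nat.card E = 7 ^ 2) ▸ Subgroup.card_subgroup_dvd_card E
    have h1' := ((by norm_num : Nat.Prime 7).pow_dvd_iff_le_factorization hne).1 hd
    have h2' := hfac _ (Nat.ordProj_dvd (Nat.card ↥(twistedE6 K 2)) 7)
    rw [show (Nat.card ↥(twistedE6 K 2)).factorization 7 = 2 by omega]
  obtain ⟨g, hg⟩ := exists_conj_le (Sylow.ofCard E hS) hP
  refine coatom_conj g ?_
  set Q := P.map (MulAut.conj g).toMonoidHom with hQ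
  have hQE : Q ≤ E := hg
  have hQ1 : Q ≠ ⊥ := by
    rw [hQ, ne_eq, Subgroup.map_eq_bot_iff_of_injective _ (MulAut.conj g).injective]
    exact hP1
  by_cases hQt : Q = E
  · rw [hQt]; exact hE
  obtain ⟨z, hz, hz1⟩ := (Subgroup.ne_bot_iff_exists_ne_one.1 hQ1 : ∃ z : Q, z ≠ 1) |> fun ⟨z, h⟩ =>
    (⟨z.1, z.2, fun h' => h (Subtype.ext h')⟩ : ∃ z, z ∈ Q ∧ z ≠ 1)
  obtain ⟨i, j, hij, hz7⟩ := pow_eq_one_of_mem hab a7 b7 (hQE hz)
  have hQz : Q = Subgroup.zpowers z := by
    obtain ⟨m, hm⟩ := IsPGroup.iff_card.1 (hE7.to_le hQE)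
    have hzo : orderOf z = 7 := orderOf_eq_prime hz7 hz1
    have h7 : 7 ∣ Nat.card Q := by
      rw [← hzo, ← Nat.card_zpowers]
      exact Subgroup.card_dvd_of_le (Subgroup.zpowers_le.2 hz)
    have hdvd := Subgroup.card_dvd_of_le hQE
    rw [hn, hn2, hm, Nat.pow_dvd_pow_iff_le_right (by norm_num)] at hdvd
    refine (Subgroup.eq_of_le_of_card_ge (Subgroup.zpowers_le.2 hz) ?_).symm
    rw [Nat.card_zpowers, hzo, hm]
    rcases Nat.lt_or_ge m 2 with h | h
    · exact (Nat.pow_le_pow_right (by norm_num) (show m ≤ 1 by omega)).trans (by norm_num)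
    · exact absurd (Subgroup.eq_of_le_of_card_ge hQE (by
        rw [hn, hn2, hm]; exact Nat.pow_le_pow_right (by norm_num) h)) hQt
  have hb' : ∀ t : ℤ, b ^ (7 * t) = 1 := fun t => by rw [_root_.zpow_mul, zpow_ofNat, b7, one_zpow]
  by_cases hj : (7 : ℤ) ∣ j
  · obtain ⟨t, rfl⟩ := hj
    rw [hb', mul_one] at hij
    rw [hQz, show Subgroup.zpowers z = Subgroup.zpowers a from Subgroup.eq_of_le_of_card_ge
      (Subgroup.zpowers_le.2 (Subgroup.mem_zpowers_iff.2 ⟨i, hij.symm⟩))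
      (by rw [Nat.card_zpowers, Nat.card_zpowers, hoa, orderOf_eq_prime hz7 hz1])]
    exact hA
  · obtain ⟨s, t, hst⟩ : ∃ s t : ℤ, s * j + t * 7 = 1 := by
      have : IsCoprime j (7 : ℤ) := by
        rw [isCoprime_comm, Int.prime_iff_natAbs_prime.2 (by norm_num : (7 : ℤ).natAbs.Prime) |>.coprime_iff_not_dvd]
        exact hj
      exact this
    have hz' : z ^ s = a ^ (((i * s) % 7).toNat) * b := by
      rw [hij, (Commute.zpow_zpow hab i j).mul_zpow, ← _root_.zpow_mul, ← _root_.zpow_mul,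
        show j * s = 1 + 7 * (-t) by linarith, _root_.zpow_add, hb', mul_one, zpow_one]
      congr 1
      rw [← zpow_natCast, Int.toNat_of_nonneg (Int.emod_nonneg _ (by norm_num)),
        show ((7 : ℤ)) = (orderOf a : ℤ) by rw [hoa]; norm_num, zpow_mod_orderOf]
    obtain ⟨hne1, hcc⟩ := hk (((i * s) % 7).toNat) (by omega)
    rw [hQz, show Subgroup.zpowers z = Subgroup.zpowers (a ^ (((i * s) % 7).toNat) * b) from
      (Subgroup.eq_of_le_of_card_ge (Subgroup.zpowers_le.2 (Subgroup.mem_zpowers_iff.2 ⟨s, hz'⟩)) (by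
        rw [Nat.card_zpowers, Nat.card_zpowers, orderOf_eq_prime hz7 hz1,
          orderOf_eq_prime (p := 7) (by rw [← hz', ← zpow_natCast, ← _root_.zpow_mul, mul_comm, _root_.zpow_mul,
            zpow_natCast, hz7, one_zpow]) hne1])).symm]
    exact hcc

end CfsgLib.Chev.TwE6Loc
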